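import Mathlib.RingTheory.Ideal.Operations
import Mathlib.RingTheory.Ideal.Maps
import Mathlib.RingTheory.AdicCompletion.Basic
import Mathlib.LinearAlgebra.Quotient.Pi
import Mathlib.Algebra.Module.Torsion.Basic
import Mathlib.RingTheory.Finiteness.Ideal
import Mathlib.Tactic.LinearCombination

/-!
Derived completeness of a module with respect to an element, in elementary form:
`x ↦ (x n - f • x (n + 1))` is bijective on `ℕ → M`.
-/

universe u v w

namespace Groth.DerComplete

variable {A : Type u} [CommRing A]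

/-- `x ↦ (x n - f • x (n + 1))`. -/
noncomputable def sigma (f : A) (M : Type v) [AddCommGroup M] [Module A M] :
    (ℕ → M) →ₗ[A] (ℕ → M) :=
  LinearMap.id - f • LinearMap.funLeft A M Nat.succ

@[simp] lemma sigma_apply (f : A) {M : Type v} [AddCommGroup M] [Module A M] (x : ℕ → M) (n : ℕ) :
    sigma f M x n = x n - f • x (n + 1) := rfl

/-- `M` is derived complete with respect to `f`. -/
def DC (f : A) (M : Type v) [AddCommGroup M] [Module A M] : Prop := Function.Bijective (sigma f M)

variable {f g : A} {M : Type v} [AddCommGroup M] [Module A M] {N : Type w} [AddCommGroup N] [Module A N]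

lemma DC.eq_zero (h : DC f M) (x : ℕ → M) (hx : ∀ n, x n = f • x (n + 1)) (n : ℕ) : x n = 0 := by
  have : x = 0 := (map_eq_zero_iff _ h.1).1 (funext fun n => by simp [← hx n])
  simp [this]

lemma DC.unique (h : DC f M) {y x x' : ℕ → M} (hx : ∀ n, x n = y n + f • x (n + 1))
    (hx' : ∀ n, x' n = y n + f • x' (n + 1)) : x = x' :=
  h.1 (funext fun n => by simp [sub_eq_of_eq_add (hx n), sub_eq_of_eq_add (hx' n)])

lemma DC.exists_sum (h : DC f M) (y : ℕ → M) : ∃ x : ℕ → M, ∀ n, x n = y n + f • x (n + 1) := by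
  obtain ⟨x, hx⟩ := h.2 y
  exact ⟨x, fun n => eq_add_of_sub_eq (congrFun hx n)⟩

lemma DC.mk (h₁ : ∀ x : ℕ → M, (∀ n, x n = f • x (n + 1)) → x = 0)
    (h₂ : ∀ y : ℕ → M, ∃ x : ℕ → M, ∀ n, x n = y n + f • x (n + 1)) : DC f M := by
  refine ⟨(injective_iff_map_eq_zero _).2 fun x hx => h₁ x fun n => sub_eq_zero.1 (congrFun hx n),
    fun y => ?_⟩
  obtain ⟨x, hx⟩ := h₂ y
  exact ⟨x, funext fun n => sub_eq_of_eq_add (hx n)⟩

/-- Transport along an additive bijection compatible with the actions of the two elements. -/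
lemma DC.of_addEquiv {B : Type*} [CommRing B] {N : Type w} [AddCommGroup N] [Module B N] {f' : B}
    (e : M ≃+ N) (he : ∀ m, e (f • m) = f' • e m) (h : DC f M) : DC f' N := by
  refine DC.mk (fun x hx => ?_) fun y => ?_
  · funext n
    apply e.symm.injective
    refine (h.eq_zero (fun n => e.symm (x n)) (fun n => e.injective ?_) n).trans (map_zero _).symm
    rw [he]; simpa using hx n
  · obtain ⟨x, hx⟩ := h.exists_sum fun n => e.symm (y n)
    refine ⟨fun n => e (x n), fun n => ?_⟩
    show e (x n) = y n + f' • e (x (n + 1))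
    rw [hx n, map_add, he, e.apply_symm_apply]

lemma DC.congr (e : M ≃ₗ[A] N) (h : DC f M) : DC f N := h.of_addEquiv e.toAddEquiv (e.map_smul f)

lemma dc_congr (e : M ≃ₗ[A] N) : DC f M ↔ DC f N := ⟨DC.congr e, DC.congr e.symm⟩

lemma dc_of_subsingleton [Subsingleton M] : DC f M :=
  DC.mk (fun _ _ => Subsingleton.elim _ _) fun _ => ⟨0, fun _ => Subsingleton.elim _ _⟩

lemma dc_zero : DC (0 : A) M :=
  DC.mk (fun x hx => funext fun n => by simpa using hx n) fun y => ⟨y, fun n => by simp⟩

/-- Products of derived complete modules are derived complete. -/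
lemma DC.pi {ι : Type*} (h : DC f M) : DC f (ι → M) := by
  refine DC.mk (fun x hx => ?_) fun y => ?_
  · funext n i
    exact h.eq_zero (fun n => x n i) (fun n => congrFun (hx n) i) n
  · choose x hx using fun i => h.exists_sum fun n => y n i
    exact ⟨fun n i => x i n, fun n => funext fun i => hx i n⟩

lemma DC.ker (hM : DC f M) (hN : DC f N) (φ : M →ₗ[A] N) : DC f (LinearMap.ker φ) := by
  refine DC.mk (fun x hx => funext fun n => Subtype.ext ?_) fun y => ?_
  · exact hM.eq_zero (fun n => (x n).1) (fun n => congrArg Subtype.val (hx n)) n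
  · obtain ⟨x, hx⟩ := hM.exists_sum fun n => (y n).1
    have h0 : ∀ n, φ (x n) = 0 := hN.eq_zero (fun n => φ (x n)) fun n => by
      rw [hx n, map_add, map_smul, LinearMap.mem_ker.1 (y n).2, zero_add]
    exact ⟨fun n => ⟨x n, h0 n⟩, fun n => Subtype.ext (hx n)⟩

lemma DC.coker (hM : DC f M) (hN : DC f N) (φ : M →ₗ[A] N) : DC f (N ⧸ LinearMap.range φ) := by
  refine DC.mk (fun x hx => ?_) fun y => ?_
  · choose u hu using fun n => Submodule.mkQ_surjective _ (x n)
    have : ∀ n, ∃ m, φ m = u n - f • u (n + 1) := fun n => by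
      rw [← LinearMap.mem_range, ← Submodule.Quotient.mk_eq_zero, ← Submodule.mkQ_apply, map_sub, map_smul,
        hu, hu, sub_eq_zero]
      exact hx n
    choose m hm using this
    obtain ⟨z, hz⟩ := hM.exists_sum m
    have h0 := hN.eq_zero (fun n => u n - φ (z n)) fun n => by
      rw [smul_sub, ← map_smul, hz n, map_add, hm n]
      abel
    funext n
    rw [← hu n, Pi.zero_apply, Submodule.mkQ_apply, Submodule.Quotient.mk_eq_zero]
    exact ⟨z n, (sub_eq_zero.1 (h0 n)).symm⟩
  · choose v hv using fun n => Submodule.mkQ_surjective _ (y n)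
    obtain ⟨u, hu⟩ := hN.exists_sum v
    exact ⟨fun n => Submodule.mkQ _ (u n), fun n => by rw [← hv n, ← map_smul, ← map_add, ← hu n]⟩

lemma DC.quot (hM : DC f M) (P : Submodule A M) (hP : DC f P) : DC f (M ⧸ P) :=
  (hP.coker hM P.subtype).congr (Submodule.quotEquivOfEq _ _ P.range_subtype)

lemma DC.range (hM : DC f M) (hN : DC f N) (φ : M →ₗ[A] N) : DC f (LinearMap.range φ) :=
  (hM.quot _ (hM.ker hN φ)).congr φ.quotKerEquivRange

lemma dc_of_extension (P : Submodule A M) (h₁ : DC f P) (h₃ : DC f (M ⧸ P)) : DC f M := by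
  refine DC.mk (fun x hx => ?_) fun y => ?_
  · have h0 : ∀ n, x n ∈ P := fun n => (Submodule.Quotient.mk_eq_zero P).1
      (h₃.eq_zero (fun n => P.mkQ (x n)) (fun n => by rw [← map_smul, ← hx n]) n)
    funext n
    exact congrArg Subtype.val (h₁.eq_zero (fun n => ⟨x n, h0 n⟩) (fun n => Subtype.ext (hx n)) n)
  · obtain ⟨q, hq⟩ := h₃.exists_sum fun n => P.mkQ (y n)
    choose u hu using fun n => P.mkQ_surjective (q n)
    have hd : ∀ n, y n + f • u (n + 1) - u n ∈ P := fun n => by
      rw [← Submodule.Quotient.mk_eq_zero]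
      show P.mkQ _ = 0
      rw [map_sub, map_add, map_smul, hu, hu, ← hq n, sub_self]
    obtain ⟨z, hz⟩ := h₁.exists_sum fun n => ⟨_, hd n⟩
    refine ⟨fun n => u n + (z n).1, fun n => ?_⟩
    show u n + (z n).1 = y n + f • (u (n + 1) + (z (n + 1)).1)
    rw [hz n]
    show u n + ((y n + f • u (n + 1) - u n) + f • (z (n + 1)).1) = _
    rw [smul_add]
    abel

/-- A derived complete module on which `f` is surjective is zero. -/
lemma DC.subsingleton_of_surjective (h : DC f M) (hs : Function.Surjective fun m : M => f • m) :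
    Subsingleton M := by
  refine subsingleton_of_forall_eq 0 fun m => ?_
  choose r hr using hs
  exact h.eq_zero (fun n => r^[n] m) (fun n => by rw [Function.iterate_succ_apply']; exact (hr _).symm) 0

/-- If `f` is complete and `e` bijective then `e - f` is surjective. -/
lemma DC.surjective_sub (h : DC f M) (e : M ≃ₗ[A] M) :
    Function.Surjective fun m : M => e m - f • m := by
  intro x
  obtain ⟨z, hz⟩ := h.exists_sum fun n => e.symm^[n + 1] x
  have key : (fun n => e.symm (z n)) = fun n => z (n + 1) :=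
    h.unique (y := fun n => e.symm^[n + 2] x)
      (fun n => by rw [hz n, map_add, map_smul, ← Function.iterate_succ_apply' e.symm (n + 1) x])
      fun n => hz (n + 1)
  refine ⟨z 0, ?_⟩
  show e (z 0) - f • z 0 = x
  conv_lhs => arg 1; rw [hz 0, map_add, map_smul]
  rw [← show e.symm (z 0) = z 1 from congrFun key 0]
  simp

/-- A criterion for being complete at `s` in terms of modules on which `s` is bijective. -/
lemma dc_of_forall_subsingleton (S : Set A) (s : A) (hS : ∀ t ∈ S, DC t M)
    (H : ∀ (L : Type v) [AddCommGroup L] [Module A L], (∀ t ∈ S, DC t L) →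
      Function.Bijective (fun l : L => s • l) → Subsingleton L) : DC s M := by
  let σ := sigma s M
  have h1 : Subsingleton (LinearMap.ker σ) := by
    refine H _ (fun t ht => (hS t ht).pi.ker (hS t ht).pi σ) ⟨fun x y hxy => ?_, fun x => ?_⟩
    · refine Subtype.ext (funext fun n => ?_)
      have hx : x.1 n = s • x.1 (n + 1) := sub_eq_zero.1 (congrFun (LinearMap.mem_ker.1 x.2) n)
      have hy : y.1 n = s • y.1 (n + 1) := sub_eq_zero.1 (congrFun (LinearMap.mem_ker.1 y.2) n)
      rw [hx, hy]
      exact congrFun (congrArg Subtype.val hxy) (n + 1)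
    · refine ⟨⟨fun n => x.1 (n + 1), ?_⟩, Subtype.ext (funext fun n => ?_)⟩
      · exact LinearMap.mem_ker.2 (funext fun n => congrFun (LinearMap.mem_ker.1 x.2) (n + 1))
      · exact (sub_eq_zero.1 (congrFun (LinearMap.mem_ker.1 x.2) n)).symm
  have h2 : Subsingleton ((ℕ → M) ⧸ LinearMap.range σ) := by
    have key : ∀ y : ℕ → M, Submodule.mkQ (LinearMap.range σ) (s • fun n => y (n + 1)) =
        Submodule.mkQ (LinearMap.range σ) y := fun y => by
      refine ((Submodule.Quotient.eq _).2 ⟨-y, ?_⟩)
      funext n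
      simp only [σ, sigma_apply, Pi.neg_apply, Pi.sub_apply, Pi.smul_apply, smul_neg]
      abel
    refine H _ (fun t ht => (hS t ht).pi.coker (hS t ht).pi σ) ⟨?_, fun y => ?_⟩
    · intro a b hab
      obtain ⟨a, rfl⟩ := Submodule.mkQ_surjective _ a
      obtain ⟨b, rfl⟩ := Submodule.mkQ_surjective _ b
      obtain ⟨z, hz⟩ := (Submodule.Quotient.eq _).1
        (show Submodule.Quotient.mk (s • a) = Submodule.Quotient.mk (s • b) from hab)
      refine (key a).symm.trans (Eq.trans ((Submodule.Quotient.eq _).2 ⟨fun n => z (n + 1), ?_⟩) (key b))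
      funext n
      exact congrFun hz (n + 1)
    · obtain ⟨y, rfl⟩ := Submodule.mkQ_surjective _ y
      exact ⟨Submodule.mkQ _ fun n => y (n + 1), key y⟩
  exact ⟨LinearMap.ker_eq_bot.1 (Submodule.subsingleton_iff_eq_bot.1 h1),
    LinearMap.range_eq_top.1 (Submodule.Quotient.subsingleton_iff.1 h2)⟩

lemma DC.mul_left (a : A) (h : DC f M) : DC (a * f) M :=
  dc_of_forall_subsingleton {f} _ (by rintro t rfl; exact h) fun L _ _ hL hb =>
    (hL f rfl).subsingleton_of_surjective fun l => by
      obtain ⟨m, hm⟩ := hb.2 l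
      exact ⟨a • m, by simpa [smul_smul, mul_comm] using hm⟩

lemma DC.of_pow {k : ℕ} (h : DC (f ^ k) M) : DC f M :=
  dc_of_forall_subsingleton {f ^ k} _ (by rintro t rfl; exact h) fun L _ _ hL hb =>
    (hL _ rfl).subsingleton_of_surjective <| by
      clear h hL
      induction k with
      | zero => exact fun l => ⟨l, by simp⟩
      | succ k ih =>
        intro l
        obtain ⟨m, hm⟩ := ih l
        obtain ⟨m', rfl⟩ := hb.2 m
        exact ⟨m', by simpa [pow_succ, mul_smul] using hm⟩

lemma DC.add (hf : DC f M) (hg : DC g M) : DC (f + g) M :=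
  dc_of_forall_subsingleton {f, g} _ (by rintro t (rfl | rfl); exacts [hf, hg]) fun L _ _ hL hb =>
    (hL g (by simp)).subsingleton_of_surjective fun l => by
      let e : L ≃ₗ[A] L := LinearEquiv.ofBijective ((f + g) • LinearMap.id) hb
      obtain ⟨m, hm⟩ := (hL f (by simp)).surjective_sub e l
      exact ⟨m, by simpa [e, add_smul] using hm⟩

variable (A M) in
/-- The elements at which `M` is derived complete form a radical ideal. -/
def dcIdeal : Ideal A where
  carrier := {f | DC f M}
  zero_mem' := dc_zero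
  add_mem' := DC.add
  smul_mem' a _ h := h.mul_left a

@[simp] lemma mem_dcIdeal : f ∈ dcIdeal A M ↔ DC f M := Iff.rfl

lemma dcIdeal_isRadical : (dcIdeal A M).IsRadical := fun _ ⟨_, hk⟩ => DC.of_pow hk

lemma dc_forall_mem_span {S : Set A} (h : ∀ t ∈ S, DC t M) : ∀ t ∈ Ideal.span S, DC t M :=
  fun _ ht => Ideal.span_le.2 (show S ⊆ dcIdeal A M from h) ht

section Adic

variable (I : Ideal A)

lemma smul_top_quot (P : Submodule A M) (J : Ideal A) :
    J • (⊤ : Submodule A (M ⧸ P)) = (J • (⊤ : Submodule A M)).map P.mkQ := by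
  rw [Submodule.map_smul'', Submodule.map_top, Submodule.range_mkQ]

/-- Complete modules are derived complete. -/
lemma dc_of_isAdicComplete [IsAdicComplete I M] (hf : f ∈ I) : DC f M := by
  have hmem : ∀ (n : ℕ) (m : M), f ^ n • m ∈ I ^ n • (⊤ : Submodule A M) := fun n m =>
    Submodule.smul_mem_smul (Ideal.pow_mem_pow hf n) Submodule.mem_top
  refine DC.mk (fun x hx => funext fun n => ?_) fun y => ?_
  · refine IsHausdorff.haus' (I := I) _ fun k => ?_
    rw [SModEq.zero]
    have : ∀ k n, x n = f ^ k • x (n + k) := fun k => by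
      induction k with
      | zero => simp
      | succ k ih => intro n; rw [ih n, hx (n + k), pow_succ, mul_smul]; rfl
    rw [this k n]
    exact hmem k _
  · let S : ℕ → ℕ → M := fun n k => ∑ i ∈ Finset.range k, f ^ i • y (n + i)
    have hS : ∀ n {a b}, a ≤ b → S n a ≡ S n b [SMOD (I ^ a • ⊤ : Submodule A M)] := fun n a b hab => by
      rw [SModEq.comm, SModEq.sub_mem]
      obtain ⟨c, rfl⟩ := Nat.exists_eq_add_of_le hab
      simp only [S, Finset.sum_range_add, add_sub_cancel_left]
      refine Submodule.sum_mem _ fun i _ => ?_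
      rw [pow_add, mul_smul]
      exact hmem a _
    choose x hx using fun n => IsPrecomplete.prec' (I := I) (S n) (hS n)
    refine ⟨x, fun n => ?_⟩
    rw [← sub_eq_zero]
    refine IsHausdorff.haus' (I := I) _ fun k => ?_
    rw [SModEq.zero]
    have h1 : x n ≡ S n (k + 1) [SMOD (I ^ k • ⊤ : Submodule A M)] :=
      (hx n (k + 1)).symm.mono (Submodule.smul_mono_left (Ideal.pow_le_pow_right (by omega)))
    have h2 : f • x (n + 1) ≡ f • S (n + 1) k [SMOD (I ^ k • ⊤ : Submodule A M)] := (hx (n + 1) k).symm.smul f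
    have h3 : S n (k + 1) = y n + f • S (n + 1) k := by
      simp only [S, Finset.sum_range_succ', Finset.smul_sum, smul_smul, ← pow_succ']
      rw [pow_zero, one_smul, add_zero, add_comm]
      refine congrArg _ (Finset.sum_congr rfl fun i _ => ?_)
      rw [show n + (i + 1) = n + 1 + i by omega]
    rw [← SModEq.sub_mem]
    refine h1.trans ?_
    rw [h3]
    exact (SModEq.refl _).add h2.symm

/-- Nakayama. -/
lemma subsingleton_of_span_smul_top (s : Finset A) :
    ∀ (M : Type v) [AddCommGroup M] [Module A M], (∀ t ∈ s, DC t M) →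
      Ideal.span (s : Set A) • (⊤ : Submodule A M) = ⊤ → Subsingleton M := by
  classical
  induction s using Finset.induction with
  | empty =>
    intro M _ _ _ h
    rw [Finset.coe_empty, Ideal.span_empty, Submodule.bot_smul] at h
    exact (Submodule.subsingleton_iff A).1 (subsingleton_of_bot_eq_top h)
  | insert a t _ ih =>
    intro M _ _ hdc h
    have ha := hdc a (Finset.mem_insert_self a t)
    let φ : M →ₗ[A] M := a • LinearMap.id
    have hQ : Subsingleton (M ⧸ LinearMap.range φ) := by
      refine ih _ (fun b hb => (hdc b (Finset.mem_insert_of_mem hb)).coker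
        (hdc b (Finset.mem_insert_of_mem hb)) φ) ?_
      have h' := congrArg (Submodule.map (LinearMap.range φ).mkQ) h
      rw [Finset.coe_insert, Ideal.span_insert, Submodule.sup_smul, Submodule.map_sup,
        ← smul_top_quot, ← smul_top_quot, Submodule.map_top, Submodule.range_mkQ] at h'
      have h0 : Ideal.span {a} • (⊤ : Submodule A (M ⧸ LinearMap.range φ)) = ⊥ := by
        rw [eq_bot_iff, Submodule.smul_le]
        intro r hr q _
        obtain ⟨c, rfl⟩ := Ideal.mem_span_singleton'.1 hr
        obtain ⟨m, rfl⟩ := Submodule.mkQ_surjective _ q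
        rw [Submodule.mem_bot, ← map_smul, Submodule.mkQ_apply, Submodule.Quotient.mk_eq_zero]
        exact ⟨c • m, by simp [φ, smul_smul, mul_comm]⟩
      rwa [h0, bot_sup_eq] at h'
    refine ha.subsingleton_of_surjective fun m => ?_
    obtain ⟨m', hm'⟩ := LinearMap.range_eq_top.1 (Submodule.Quotient.subsingleton_iff.1 hQ) m
    exact ⟨m', hm'⟩

lemma pow_smul_top_le (a : A) (J : Ideal A) (n : ℕ) :
    (J ⊔ Ideal.span {a}) ^ n • (⊤ : Submodule A M) ≤
      ⨆ j ∈ Finset.range (n + 1), (J ^ (n - j) • (⊤ : Submodule A M)).map (a ^ j • LinearMap.id) := by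
  induction n with
  | zero =>
    refine le_trans ?_ (le_iSup₂_of_le 0 (by simp) le_rfl)
    simp [Ideal.one_eq_top]
  | succ n ih =>
    rw [pow_succ', Submodule.mul_smul]
    refine (Submodule.smul_mono le_rfl ih).trans ?_
    rw [Submodule.sup_smul, Submodule.smul_iSup, Submodule.smul_iSup]
    simp only [Submodule.smul_iSup, ← Submodule.map_smul'', sup_le_iff, iSup_le_iff, Finset.mem_range]
    refine ⟨fun j hj => ?_, fun j hj => ?_⟩
    · refine le_trans (le_of_eq ?_) (le_iSup₂_of_le j (by omega) le_rfl)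
      rw [← Submodule.mul_smul, ← pow_succ', show n + 1 - j = n - j + 1 by omega]
    · refine le_trans ?_ (le_iSup₂_of_le (j + 1) (by omega) le_rfl)
      rw [show n + 1 - (j + 1) = n - j by omega, Submodule.map_le_iff_le_comap, Submodule.smul_le]
      intro r hr m hm
      obtain ⟨c, rfl⟩ := Ideal.mem_span_singleton'.1 hr
      exact ⟨c • m, Submodule.smul_mem _ c hm, by simp [smul_smul, pow_succ]; ring_nf⟩

/-- Tails of a series with `n`-th term in `I ^ n M` exist. -/
lemma exists_tails (s : Finset A) (h : ∀ t ∈ s, DC t M) :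
    ∀ δ : ℕ → M, (∀ n, δ n ∈ Ideal.span (s : Set A) ^ n • (⊤ : Submodule A M)) →
      ∃ T : ℕ → M, ∀ n, T n ∈ Ideal.span (s : Set A) ^ n • (⊤ : Submodule A M) ∧ T n = δ n + T (n + 1) := by
  classical
  induction s using Finset.induction with
  | empty =>
    intro δ hδ
    refine ⟨fun n => if n = 0 then δ 0 else 0, fun n => ?_⟩
    have hz : ∀ n, n ≠ 0 → δ n = 0 := fun n hn => by
      have := hδ n
      rwa [Finset.coe_empty, Ideal.span_empty, ← Submodule.zero_eq_bot, zero_pow hn, Submodule.zero_eq_bot,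
        Submodule.bot_smul, Submodule.mem_bot] at this
    rcases Nat.eq_zero_or_pos n with rfl | hn
    · simp [Ideal.one_eq_top]
    · simp [hn.ne', hz n hn.ne']
  | insert a t _ ih =>
    intro δ hδ
    have ha := h a (Finset.mem_insert_self a t)
    set J := Ideal.span (t : Set A)
    set K := Ideal.span ((insert a t : Finset A) : Set A)
    have hK : K = J ⊔ Ideal.span {a} := by
      simp only [K, J, Finset.coe_insert, Ideal.span_insert, sup_comm]
    have hdec : ∀ n, ∃ e : ℕ → M, (∀ j, e j ∈ J ^ (n - j) • (⊤ : Submodule A M)) ∧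
        δ n = ∑ j ∈ Finset.range (n + 1), a ^ j • e j := fun n => by
      have := pow_smul_top_le (M := M) a J n (hK ▸ hδ n)
      obtain ⟨μ, hμ⟩ := (Submodule.mem_iSup_finset_iff_exists_sum _ _).1 this
      choose e he using fun j => (μ j).2
      exact ⟨e, fun j => (he j).1, hμ.symm.trans (Finset.sum_congr rfl fun j _ => (he j).2.symm)⟩
    choose e he hδe using hdec
    choose T hT using fun j => ih (fun b hb => h b (Finset.mem_insert_of_mem hb)) (fun m => e (j + m) j)
      (fun m => by simpa using he (j + m) j)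
    obtain ⟨U, hU⟩ := ha.exists_sum fun n => T n 0
    refine ⟨fun n => ∑ j ∈ Finset.range n, a ^ j • T j (n - j) + a ^ n • U n, fun n => ⟨?_, ?_⟩⟩
    · refine Submodule.add_mem _ (Submodule.sum_mem _ fun j hj => ?_)
        (Submodule.smul_mem_smul (Ideal.pow_mem_pow (Ideal.subset_span (by simp)) n) Submodule.mem_top)
      rw [Finset.mem_range] at hj
      rw [show n = j + (n - j) by omega, pow_add, Submodule.mul_smul, Nat.add_sub_cancel_left]
      exact Submodule.smul_mem_smul (Ideal.pow_mem_pow (Ideal.subset_span (by simp)) j)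
        (Submodule.smul_mono_left (Ideal.pow_right_mono (hK ▸ le_sup_left) _) (hT j _).1)
    · dsimp only
      rw [hδe n, Finset.sum_range_succ, Finset.sum_range_succ,
        show n + 1 - n = 1 by omega, hU n, smul_add, smul_smul, ← pow_succ]
      have h1 : ∀ j ∈ Finset.range n, a ^ j • T j (n - j) =
          a ^ j • e n j + a ^ j • T j (n + 1 - j) := fun j hj => by
        rw [Finset.mem_range] at hj
        rw [(hT j (n - j)).2, smul_add, show j + (n - j) = n by omega, show n - j + 1 = n + 1 - j by omega]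
      rw [Finset.sum_congr rfl h1, Finset.sum_add_distrib, (hT n 0).2, smul_add, add_zero]
      abel

/-- Derived complete modules surject onto their completion. -/
lemma surjective_of_completion (hI : I.FG) (h : ∀ t ∈ I, DC t M) :
    Function.Surjective (AdicCompletion.of I M) := by
  obtain ⟨s, rfl⟩ := hI
  intro z
  obtain ⟨c, rfl⟩ := AdicCompletion.mk_surjective _ M z
  obtain ⟨T, hT⟩ := exists_tails s (fun t ht => h t (Submodule.subset_span ht)) (fun n => c (n + 1) - c n)
    fun n => (SModEq.sub_mem.1 (c.2 (show n ≤ n + 1 by omega)).symm)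
  refine ⟨c 0 + T 0, AdicCompletion.ext fun n => ?_⟩
  simp only [AdicCompletion.of_apply, AdicCompletion.mk_apply_coe]
  refine (Submodule.Quotient.eq _).2 ?_
  have key : ∀ n, c 0 + T 0 = c n + T n := fun n => by
    induction n with
    | zero => rfl
    | succ n ih => rw [ih, (hT n).2]; abel
  rw [key n, add_sub_cancel_left]
  exact (hT n).1

/-- On a derived complete module, a power torsion element is killed uniformly. -/
lemma exists_pow_smul_eq_zero (hf : DC f M) (ht : ∀ m : M, ∃ k : ℕ, f ^ k • m = 0) :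
    ∃ k : ℕ, ∀ m : M, f ^ k • m = 0 := by
  by_cases hstab : ∃ j : ℕ, ∀ m : M, ∃ m', f ^ j • m = f ^ (j + 1) • m'
  · obtain ⟨j, hj⟩ := hstab
    refine ⟨j, fun m => ?_⟩
    let φ : M →ₗ[A] M := f ^ j • LinearMap.id
    have := (hf.range hf φ).subsingleton_of_surjective <| by
      rintro ⟨_, x, rfl⟩
      obtain ⟨m', hm'⟩ := hj x
      exact ⟨⟨φ m', m', rfl⟩, Subtype.ext (by simp [φ, smul_smul, hm', pow_succ, mul_comm])⟩
    exact congrArg Subtype.val (Subsingleton.elim (⟨φ m, m, rfl⟩ : LinearMap.range φ) 0)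
  push_neg at hstab
  exfalso
  choose kill hkill using ht
  choose y hy using hstab
  let st : ℕ → ℕ := fun n => Nat.rec 0
    (fun i k => max (max (i + 1) k) (kill (y (k + i)))) n
  have hst1 : ∀ i, i ≤ st i := fun i => by
    cases i with
    | zero => exact le_rfl
    | succ i => exact (le_max_left _ _).trans (le_max_left _ _)
  have hst2 : Monotone st := monotone_nat_of_le_succ fun i =>
    (le_max_right _ _).trans (le_max_left _ _)
  obtain ⟨x, hx⟩ := hf.exists_sum fun i => y (st i + i)
  have hsum : ∀ i, x 0 = ∑ l ∈ Finset.range i, f ^ l • y (st l + l) + f ^ i • x i := fun i => by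
    induction i with
    | zero => simp
    | succ i ih => rw [ih, Finset.sum_range_succ, hx i, smul_add, smul_smul, ← pow_succ, add_assoc]
  let i := kill (x 0)
  have h0 : f ^ st i • x 0 = 0 := by
    obtain ⟨c, hc⟩ := Nat.exists_eq_add_of_le (hst1 i)
    rw [hc, add_comm, pow_add, mul_smul, hkill, smul_zero]
  rw [hsum i, smul_add, Finset.smul_sum, Finset.sum_eq_zero, zero_add, hx i, smul_add, smul_add,
    smul_smul, smul_smul, smul_smul, ← pow_add, ← pow_succ] at h0
  · refine hy (st i + i) (-x (i + 1)) ?_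
    rw [smul_neg]
    exact eq_neg_of_add_eq_zero_left h0
  · intro l hl
    rw [Finset.mem_range] at hl
    obtain ⟨c, hc⟩ := Nat.exists_eq_add_of_le
      ((le_max_right _ _ : kill (y (st l + l)) ≤ st (l + 1)).trans (hst2 (show l + 1 ≤ i from hl)))
    rw [smul_smul, hc, pow_add, show ∀ p q r : A, p * q * r = (q * r) * p by intros; ring, mul_smul,
      hkill, smul_zero]

/-- A derived complete, power torsion module is killed by a power of the ideal. -/
lemma exists_pow_smul_top_eq_bot (hI : I.FG) (h : ∀ t ∈ I, DC t M)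
    (ht : ∀ t ∈ I, ∀ m : M, ∃ k : ℕ, t ^ k • m = 0) : ∃ n : ℕ, I ^ n • (⊤ : Submodule A M) = ⊥ := by
  have : I ≤ (Module.annihilator A M).radical := fun t htI => by
    obtain ⟨k, hk⟩ := exists_pow_smul_eq_zero (h t htI) (ht t htI)
    exact ⟨k, Module.mem_annihilator.2 hk⟩
  obtain ⟨n, hn⟩ := Ideal.exists_pow_le_of_le_radical_of_fg this hI
  refine ⟨n, eq_bot_iff.2 (Submodule.smul_le.2 fun r hr m _ => ?_)⟩
  exact (Submodule.mem_bot A).2 (Module.mem_annihilator.1 (hn hr) m)

/-- `⋂ (f ^ n)` kills `⋂ f ^ n M`. -/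
lemma iInf_smul_iInf_eq_bot (hf : DC f M) :
    (⨅ n : ℕ, Ideal.span {f ^ n}) • (⨅ n : ℕ, Ideal.span {f ^ n} • (⊤ : Submodule A M)) = ⊥ := by
  rw [eq_bot_iff, Submodule.smul_le]
  intro a ha m hm
  rw [Submodule.mem_iInf] at ha hm
  choose c hc using fun n => Ideal.mem_span_singleton'.1 (ha n)
  have key : ∀ n, c n • m = f • c (n + 1) • m := fun n => by
    have hm' : ∃ m', f ^ n • m' = m := by
      refine Submodule.smul_induction_on (hm n) (fun r hr x _ => ?_) fun x y hx hy => ?_
      · obtain ⟨b, rfl⟩ := Ideal.mem_span_singleton'.1 hr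
        exact ⟨b • x, by rw [smul_smul, mul_comm]⟩
      · obtain ⟨x', rfl⟩ := hx
        obtain ⟨y', rfl⟩ := hy
        exact ⟨x' + y', smul_add _ _ _⟩
    obtain ⟨m', rfl⟩ := hm'
    simp only [smul_smul, hc]
    congr 1
    rw [show f * (c (n + 1) * f ^ n) = c (n + 1) * f ^ (n + 1) by ring, hc]
  rw [Submodule.mem_bot, ← hc 0, pow_zero, mul_one]
  exact hf.eq_zero (fun n => c n • m) key 0

/-- `1 - a f` is a unit if the ring is derived complete at `f`. -/
lemma le_jacobson (h : ∀ t ∈ I, DC t A) : I ≤ Ideal.jacobson (⊥ : Ideal A) := by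
  intro t ht
  rw [Ideal.mem_jacobson_bot]
  intro y
  obtain ⟨z, hz⟩ := (DC.mul_left (-y) (h t ht)).surjective_sub (LinearEquiv.refl A A) 1
  refine IsUnit.of_mul_eq_one z ?_
  simp only [LinearEquiv.refl_apply, smul_eq_mul] at hz
  linear_combination hz

/-- A product of two elements annihilates, given annihilation on quotients and kernels of powers of `a`. -/
lemma DC.mul_smul_eq_zero {a x y : A} (ha : DC a M)
    (hx : ∀ (n : ℕ) (m : M), ∃ m', a ^ n • m' = x • m)
    (hy : ∀ (n : ℕ) (m : M), a ^ n • m = 0 → y • m = 0) (m : M) : (y * x) • m = 0 := by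
  choose r hr using fun n => hx n m
  have key : ∀ n, y • r n = a • y • r (n + 1) := fun n => by
    rw [smul_comm a y, ← sub_eq_zero, ← smul_sub]
    refine hy n _ ?_
    rw [smul_sub, hr, smul_smul, ← pow_succ, hr, sub_self]
  have := ha.eq_zero (fun n => y • r n) key 0
  rw [mul_smul, ← hr 0, pow_zero, one_smul]
  exact this

/-- The bound on the intersection of the powers. -/
lemma iInf_pow_smul_eq_zero (s : Finset A) :
    ∀ (M : Type u) [AddCommGroup M] [Module A M], (∀ t ∈ s, DC t M) →
      ∀ E : Ideal A, (∀ e ∈ E, ∀ m : M, e • m = 0) →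
        ∀ x ∈ (⨅ n : ℕ, Ideal.span (s : Set A) ^ n ⊔ E) ^ (2 ^ s.card), ∀ m : M, x • m = 0 := by
  classical
  induction s using Finset.induction with
  | empty =>
    intro M _ _ _ E hE x hx m
    rw [Finset.card_empty, pow_zero, pow_one, Submodule.mem_iInf] at hx
    have := hx 1
    rw [pow_one, Finset.coe_empty, Ideal.span_empty, bot_sup_eq] at this
    exact hE x this m
  | insert a t hat ih =>
    intro M _ _ hdc E hE x hx m
    have ha := hdc a (Finset.mem_insert_self a t)
    have ht := fun b hb => hdc b (Finset.mem_insert_of_mem hb)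
    set J := Ideal.span (t : Set A)
    set K := ⨅ n : ℕ, Ideal.span ((insert a t : Finset A) : Set A) ^ n ⊔ E
    have hK : ∀ n, K ≤ ⨅ k : ℕ, J ^ k ⊔ (Ideal.span {a ^ n} ⊔ E) := fun n => le_iInf fun k => by
      refine (iInf_le _ (k + n)).trans (sup_le ?_ (le_sup_right.trans le_sup_right))
      rw [Finset.coe_insert, Ideal.span_insert, sup_comm]
      refine Ideal.sup_pow_add_le_pow_sup_pow.trans (sup_le le_sup_left ?_)
      rw [Ideal.span_singleton_pow]
      exact le_sup_left.trans le_sup_right
    have hxm : ∀ y ∈ K ^ 2 ^ t.card, ∀ n, (∀ m : M, ∃ m', a ^ n • m' = y • m) ∧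
        ∀ m : M, a ^ n • m = 0 → y • m = 0 := fun y hy n => by
      have hy' := Ideal.pow_right_mono (hK n) _ hy
      let φ : M →ₗ[A] M := a ^ n • LinearMap.id
      constructor
      · intro m
        have := ih (M ⧸ LinearMap.range φ) (fun b hb => (ht b hb).coker (ht b hb) φ) _ (fun e he q => by
          obtain ⟨q, rfl⟩ := Submodule.mkQ_surjective _ q
          obtain ⟨u, hu, v, hv, rfl⟩ := Submodule.mem_sup.1 he
          obtain ⟨c, rfl⟩ := Ideal.mem_span_singleton'.1 hu
          rw [← map_smul, add_smul, hE v hv, add_zero, Submodule.mkQ_apply, Submodule.Quotient.mk_eq_zero]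
          exact ⟨c • q, by simp [φ, smul_smul, mul_comm]⟩) y hy' (Submodule.mkQ _ m)
        rw [← map_smul, Submodule.mkQ_apply, Submodule.Quotient.mk_eq_zero] at this
        obtain ⟨m', hm'⟩ := this
        exact ⟨m', hm'⟩
      · intro m hm
        refine congrArg Subtype.val (ih (LinearMap.ker φ) (fun b hb => (ht b hb).ker (ht b hb) φ) _
          (fun e he q => ?_) y hy' ⟨m, hm⟩)
        obtain ⟨u, hu, v, hv, rfl⟩ := Submodule.mem_sup.1 he
        obtain ⟨c, rfl⟩ := Ideal.mem_span_singleton'.1 hu
        refine Subtype.ext ?_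
        show (c * a ^ n + v) • q.1 = 0
        rw [add_smul, mul_smul, hE v hv, add_zero]
        exact (congrArg (c • ·) q.2).trans (smul_zero c)
    rw [Finset.card_insert_of_notMem hat, pow_succ, mul_comm, pow_mul'] at hx
    change x ∈ (K ^ 2 ^ t.card) ^ 2 at hx
    rw [pow_two] at hx
    refine Submodule.mul_induction_on hx (fun y hy z hz => ?_) fun y z hy hz => by
      rw [add_smul, hy, hz, add_zero]
    exact ha.mul_smul_eq_zero (fun n => (hxm z hz n).1) (fun n => (hxm y hy n).2) m

end Adic

end Groth.DerComplete
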