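import Mathlib.Algebra.Homology.DerivedCategory.KProjective
import Mathlib.Algebra.Homology.DerivedCategory.TStructure
import Mathlib.Algebra.Homology.DerivedCategory.FullyFaithful
import Mathlib.Algebra.Homology.SingleHomology

/-!
Morphisms out of a projective object in degree zero in the derived category.
-/

universe w v u

open CategoryTheory CategoryTheory.Limits HomologicalComplex

namespace Groth.DerComplete

variable {C : Type u} [Category.{v} C] [Abelian C]

section Complex

variable {K : CochainComplex C ℤ} {M : C} [Projective M]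

lemma exists_homologyMap_eq (t : ((single C (ComplexShape.up ℤ) 0).obj M).homology 0 ⟶ K.homology 0) :
    ∃ ψ : (single C (ComplexShape.up ℤ) 0).obj M ⟶ K, homologyMap ψ 0 = t := by
  let e := singleObjCyclesSelfIso (ComplexShape.up ℤ) 0 M
  let g : M ⟶ K.cycles 0 :=
    Projective.factorThru (e.inv ≫ ((single C (ComplexShape.up ℤ) 0).obj M).homologyπ 0 ≫ t) (K.homologyπ 0)
  let ψ : (single C (ComplexShape.up ℤ) 0).obj M ⟶ K :=
    mkHomFromSingle (g ≫ K.iCycles 0) (fun k _ => by rw [Category.assoc, iCycles_d, comp_zero])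
  refine ⟨ψ, ?_⟩
  rw [← cancel_epi (((single C (ComplexShape.up ℤ) 0).obj M).homologyπ 0), homologyπ_naturality]
  have hc : cyclesMap ψ 0 = e.hom ≫ g := by
    rw [← cancel_mono (K.iCycles 0), cyclesMap_i, mkHomFromSingle_f, Category.assoc,
      singleObjCyclesSelfIso_hom, Category.assoc]
  rw [hc, Category.assoc, Projective.factorThru_comp, Iso.hom_inv_id_assoc]

lemma homotopic_zero_of_homologyMap_eq_zero (ψ : (single C (ComplexShape.up ℤ) 0).obj M ⟶ K)
    (h : homologyMap ψ 0 = 0) : Nonempty (Homotopy ψ 0) := by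
  let e := singleObjCyclesSelfIso (ComplexShape.up ℤ) 0 M
  let g : M ⟶ K.cycles 0 := e.inv ≫ cyclesMap ψ 0
  have hg : g ≫ K.homologyπ 0 = 0 := by
    rw [Category.assoc, ← homologyπ_naturality, h, comp_zero, comp_zero]
  have hi : (ComplexShape.up ℤ).prev 0 = -1 := (ComplexShape.up ℤ).prev_eq' (by simp)
  have hex : (ShortComplex.mk _ _ (K.toCycles_comp_homologyπ (-1) 0)).Exact :=
    ShortComplex.exact_of_g_is_cokernel _ (K.homologyIsCokernel (-1) 0 hi)
  let l : M ⟶ K.X (-1) := hex.liftFromProjective g hg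
  have hl : l ≫ K.toCycles (-1) 0 = g := hex.liftFromProjective_comp g hg
  let hh : ∀ i j, (ComplexShape.up ℤ).Rel j i → (((single C (ComplexShape.up ℤ) 0).obj M).X i ⟶ K.X j) :=
    fun i j hji => if hi : i = 0 then
      (singleObjXIsoOfEq (ComplexShape.up ℤ) 0 M i hi).hom ≫ l ≫
        (K.XIsoOfEq (show (-1 : ℤ) = j by have : j + 1 = i := hji; omega)).hom
      else 0
  have key : ψ = Homotopy.nullHomotopicMap' hh := by
    apply from_single_hom_ext
    rw [Homotopy.nullHomotopicMap'_f (k₂ := -1) (k₁ := 0) (k₀ := 1) (by simp) (by simp)]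
    rw [single_obj_d, zero_comp, zero_add]
    simp only [hh, ↓reduceDIte, XIsoOfEq_rfl, Iso.refl_hom, Category.comp_id, Category.assoc]
    rw [← K.toCycles_i (-1) 0, reassoc_of% hl]
    simp only [g, Category.assoc, cyclesMap_i, singleObjCyclesSelfIso_inv_iCycles_assoc, e]
    exact (Iso.hom_inv_id_assoc (singleObjXSelf (ComplexShape.up ℤ) 0 M) _).symm
  exact ⟨(Homotopy.ofEq key).trans (Homotopy.nullHomotopy' hh)⟩

end Complex

variable [HasDerivedCategory.{w} C]

/-- `Hom (M[0], K) → Hom (M, H⁰ K)`. -/
noncomputable def toHomH0 (M : C) (K : DerivedCategory C) :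
    ((DerivedCategory.singleFunctor C 0).obj M ⟶ K) →+ (M ⟶ (DerivedCategory.homologyFunctor C 0).obj K) where
  toFun φ := (DerivedCategory.singleFunctorCompHomologyFunctorIso C 0).inv.app M ≫
    (DerivedCategory.homologyFunctor C 0).map φ
  map_zero' := by simp
  map_add' φ φ' := by simp

lemma toHomH0_precomp {M M' : C} (u : M ⟶ M') {K : DerivedCategory C}
    (φ : (DerivedCategory.singleFunctor C 0).obj M' ⟶ K) :
    toHomH0 M K ((DerivedCategory.singleFunctor C 0).map u ≫ φ) = u ≫ toHomH0 M' K φ := by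
  change _ ≫ (DerivedCategory.homologyFunctor C 0).map _ = u ≫ _ ≫ _
  rw [Functor.map_comp]
  exact ((DerivedCategory.singleFunctorCompHomologyFunctorIso C 0).inv.naturality_assoc u _).symm

lemma toHomH0_bijective (M : C) [Projective M] (K : DerivedCategory C) :
    Function.Bijective (toHomH0 M K) := by
  obtain ⟨L, ⟨e⟩⟩ : ∃ L, Nonempty (DerivedCategory.Q.obj L ≅ K) :=
    ⟨_, ⟨DerivedCategory.Q.objObjPreimageIso K⟩⟩
  let S : CochainComplex C ℤ := (single C (ComplexShape.up ℤ) 0).obj M
  let eS : (DerivedCategory.singleFunctor C 0).obj M ≅ DerivedCategory.Q.obj S :=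
    (DerivedCategory.singleFunctorIsoCompQ C 0).app M
  let η := DerivedCategory.homologyFunctorFactors C 0
  let H := DerivedCategory.homologyFunctor C 0
  have : S.IsKProjective := by
    have : ∀ n, Projective (S.X n) := fun n => by
      by_cases hn : n = 0
      · exact Projective.of_iso (singleObjXIsoOfEq (ComplexShape.up ℤ) 0 M n hn).symm inferInstance
      · exact (isZero_single_obj_X (ComplexShape.up ℤ) 0 M n hn).projective
    exact CochainComplex.isKProjective_of_projective S 0
  constructor
  · rw [injective_iff_map_eq_zero]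
    intro φ hφ
    change _ ≫ H.map φ = 0 at hφ
    rw [Preadditive.IsIso.comp_left_eq_zero] at hφ
    obtain ⟨ψ, hψ⟩ := (CochainComplex.IsKProjective.Qh_map_bijective S _).2
      ((DerivedCategory.quotientCompQhIso C).hom.app S ≫ eS.inv ≫ φ ≫ e.inv ≫
        (DerivedCategory.quotientCompQhIso C).inv.app L)
    obtain ⟨χ, rfl⟩ := (HomotopyCategory.quotient _ _).map_surjective ψ
    have hφ' : φ = eS.hom ≫ DerivedCategory.Q.map χ ≫ e.hom := by
      have := DerivedCategory.quotientCompQhIso_hom_naturality χ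
      rw [hψ] at this
      simp only [Category.assoc, Iso.inv_hom_id_app, Functor.comp_obj, Category.comp_id] at this
      rw [cancel_epi] at this
      rw [← this]
      simp
    have h0 : homologyMap χ 0 = 0 := by
      rw [hφ', Functor.map_comp, Preadditive.IsIso.comp_left_eq_zero, Functor.map_comp,
        Preadditive.IsIso.comp_right_eq_zero] at hφ
      have h1 := NatIso.naturality_2 η χ
      dsimp only [Functor.comp_map] at h1
      rw [show (DerivedCategory.homologyFunctor C 0).map (DerivedCategory.Q.map χ) = 0 from hφ] at h1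
      refine (cancel_epi (η.hom.app S)).1 ((cancel_mono (η.inv.app L)).1 ?_)
      exact ((Category.assoc _ _ _).trans h1).trans ((congrArg (· ≫ η.inv.app L) (comp_zero (f := η.hom.app S))).trans zero_comp).symm
    obtain ⟨hh⟩ := homotopic_zero_of_homologyMap_eq_zero χ h0
    rw [hφ', DerivedCategory.Q_map_eq_of_homotopy C hh, Functor.map_zero, zero_comp, comp_zero]
  · intro w
    obtain ⟨ψ, hψ⟩ := exists_homologyMap_eq (K := L) (M := M)
      (η.inv.app S ≫ H.map eS.inv ≫ (DerivedCategory.singleFunctorCompHomologyFunctorIso C 0).hom.app M ≫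
        w ≫ H.map e.inv ≫ η.hom.app L)
    refine ⟨eS.hom ≫ DerivedCategory.Q.map ψ ≫ e.hom, ?_⟩
    change _ ≫ H.map _ = w
    have hn : H.map (DerivedCategory.Q.map ψ) =
        η.hom.app S ≫ (homologyFunctor C (ComplexShape.up ℤ) 0).map ψ ≫ η.inv.app L :=
      (NatIso.naturality_2 η ψ).symm
    have hψ' : (homologyFunctor C (ComplexShape.up ℤ) 0).map ψ = η.inv.app S ≫ H.map eS.inv ≫
        (DerivedCategory.singleFunctorCompHomologyFunctorIso C 0).hom.app M ≫
          w ≫ H.map e.inv ≫ η.hom.app L := hψ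
    rw [H.map_comp, H.map_comp, hn, hψ']
    simp only [Category.assoc, Iso.hom_inv_id_app_assoc]
    rw [← H.map_comp_assoc, Iso.hom_inv_id, H.map_id, Category.id_comp, Iso.inv_hom_id_app_assoc]
    rw [← H.map_comp, Iso.inv_hom_id, H.map_id, Category.comp_id]

end Groth.DerComplete
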