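import Groth.Prelude.Def_DRing3
import Groth.Agent.DerComplete.Module
import Groth.Agent.DerComplete.SingleProj
import Mathlib.Algebra.Homology.DerivedCategory.SingleTriangle
import Mathlib.Algebra.Category.ModuleCat.Projective
import Mathlib.Algebra.Category.ModuleCat.EnoughInjectives
import Mathlib.Algebra.Homology.ShortComplex.ModuleCat

/-!
`K` is derived complete at `f` iff each `Hⁱ(K)` is.
-/

universe u

open CategoryTheory CategoryTheory.Limits CategoryTheory.Pretriangulated

attribute [local instance] HasDerivedCategory.standard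

namespace Groth.DerComplete

variable {A : Type u} [CommRing A]

section Sequence

variable (f : A)

/-- `⊕ A`. -/
noncomputable abbrev freeN (A : Type u) [CommRing A] : ModuleCat.{u} A := ModuleCat.of A (ℕ →₀ A)

/-- `e_n ↦ e_n - f e_{n+1}`. -/
noncomputable def stepMap : (ℕ →₀ A) →ₗ[A] ℕ →₀ A :=
  Finsupp.linearCombination A fun n => Finsupp.single n 1 - f • Finsupp.single (n + 1) 1

lemma stepMap_single (n : ℕ) :
    stepMap f (Finsupp.single n 1) = Finsupp.single n 1 - f • Finsupp.single (n + 1) 1 := by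
  simp [stepMap]

/-- `e_n ↦ f^{-n}`. -/
noncomputable def augMap : (ℕ →₀ A) →ₗ[A] Localization.Away f :=
  Finsupp.linearCombination A fun n => IsLocalization.Away.invSelf (S := Localization.Away f) f ^ n

lemma stepMap_apply_succ (x : ℕ →₀ A) (n : ℕ) : stepMap f x (n + 1) = x (n + 1) - f * x n := by
  have : (Finsupp.lapply (n + 1)).comp (stepMap f) =
      Finsupp.lapply (n + 1) - f • Finsupp.lapply n := by
    refine Finsupp.basisSingleOne.ext fun m => ?_
    simp [stepMap_single, Finsupp.single_apply]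
  simpa using LinearMap.congr_fun this x

lemma stepMap_apply_zero (x : ℕ →₀ A) : stepMap f x 0 = x 0 := by
  have : (Finsupp.lapply 0).comp (stepMap f) = Finsupp.lapply 0 := by
    refine Finsupp.basisSingleOne.ext fun m => ?_
    simp [stepMap_single, Finsupp.single_apply]
  exact LinearMap.congr_fun this x

lemma stepMap_injective : Function.Injective (stepMap f) := by
  rw [injective_iff_map_eq_zero]
  intro x hx
  ext n
  induction n with
  | zero => simpa [stepMap_apply_zero] using DFunLike.congr_fun hx 0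
  | succ n ih => simpa [stepMap_apply_succ, ih] using DFunLike.congr_fun hx (n + 1)

lemma invSelf_mul : IsLocalization.Away.invSelf (S := Localization.Away f) f * algebraMap A _ f = 1 := by
  rw [mul_comm]
  exact IsLocalization.Away.mul_invSelf f

lemma augMap_stepMap (x : ℕ →₀ A) : augMap f (stepMap f x) = 0 := by
  have : (augMap f).comp (stepMap f) = 0 := by
    refine Finsupp.basisSingleOne.ext fun m => ?_
    simp only [Finsupp.coe_basisSingleOne, LinearMap.comp_apply, stepMap_single, map_sub, map_smul,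
      LinearMap.zero_apply, sub_eq_zero]
    simp only [augMap, Finsupp.linearCombination_single, one_smul]
    rw [Algebra.smul_def, pow_succ, mul_left_comm, mul_comm (algebraMap A _ f), invSelf_mul, mul_one]
  exact LinearMap.congr_fun this x

lemma augMap_surjective : Function.Surjective (augMap f) := fun z => by
  obtain ⟨n, a, ha⟩ := IsLocalization.Away.surj f z
  refine ⟨Finsupp.single n a, ?_⟩
  simp only [augMap, Finsupp.linearCombination_single, Algebra.smul_def]
  rw [← ha, mul_assoc, ← mul_pow, mul_comm (algebraMap A _ f), invSelf_mul, one_pow, mul_one]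

lemma smul_single_sub_mem_range (n : ℕ) (a : A) :
    Finsupp.single n a - Finsupp.single (n + 1) (f * a) ∈ LinearMap.range (stepMap f) := by
  refine ⟨Finsupp.single n a, ?_⟩
  conv_lhs => rw [← Finsupp.smul_single_one n a, map_smul, stepMap_single, smul_sub, smul_smul]
  rw [Finsupp.smul_single_one, Finsupp.smul_single_one, mul_comm]

lemma single_sub_mem_range (n k : ℕ) (a : A) :
    Finsupp.single n a - Finsupp.single (n + k) (f ^ k * a) ∈ LinearMap.range (stepMap f) := by
  induction k with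
  | zero => simp
  | succ k ih =>
    have := Submodule.add_mem _ ih (smul_single_sub_mem_range f (n + k) (f ^ k * a))
    rwa [sub_add_sub_cancel, ← mul_assoc, ← pow_succ'] at this

lemma exact_stepMap_augMap : Function.Exact (stepMap f) (augMap f) := by
  refine fun x => ⟨fun hx => ?_, ?_⟩
  · have hred : ∀ x : ℕ →₀ A, ∃ N, ∀ M ≥ N, ∃ b, x - Finsupp.single M b ∈ LinearMap.range (stepMap f) := by
      intro x
      induction x using Finsupp.induction_linear with
      | zero => exact ⟨0, fun M _ => ⟨0, by simp⟩⟩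
      | add u v hu hv =>
        obtain ⟨N₁, hu⟩ := hu
        obtain ⟨N₂, hv⟩ := hv
        refine ⟨max N₁ N₂, fun M hM => ?_⟩
        obtain ⟨b, hb⟩ := hu M (le_trans (le_max_left _ _) hM)
        obtain ⟨b', hb'⟩ := hv M (le_trans (le_max_right _ _) hM)
        refine ⟨b + b', ?_⟩
        rw [Finsupp.single_add, add_sub_add_comm]
        exact Submodule.add_mem _ hb hb'
      | single n a =>
        refine ⟨n, fun M hM => ?_⟩
        obtain ⟨k, rfl⟩ := Nat.exists_eq_add_of_le hM
        exact ⟨_, single_sub_mem_range f n k a⟩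
    obtain ⟨N, hN⟩ := hred x
    obtain ⟨b, hb⟩ := hN N le_rfl
    obtain ⟨w, hw⟩ := hb
    have h0 : augMap f (Finsupp.single N b) = 0 := by
      have := augMap_stepMap f w
      rwa [hw, map_sub, hx, zero_sub, neg_eq_zero] at this
    simp only [augMap, Finsupp.linearCombination_single, Algebra.smul_def] at h0
    have hb0 : algebraMap A (Localization.Away f) b = 0 := by
      have := congrArg (· * algebraMap A (Localization.Away f) f ^ N) h0
      simpa [mul_assoc, ← mul_pow, invSelf_mul] using this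
    obtain ⟨⟨_, k, rfl⟩, hk⟩ := (IsLocalization.map_eq_zero_iff (Submonoid.powers f) _ _).1 hb0
    have h1 := single_sub_mem_range f N k b
    rw [show f ^ k * b = 0 from hk, Finsupp.single_zero, sub_zero] at h1
    obtain ⟨w', hw'⟩ := h1
    exact ⟨w + w', by rw [map_add, hw, hw', sub_add_cancel]⟩
  · rintro ⟨w, rfl⟩
    exact augMap_stepMap f w

/-- `0 → ⊕ A → ⊕ A → A_f → 0`. -/
noncomputable abbrev awaySC : ShortComplex (ModuleCat.{u} A) :=
  ShortComplex.mk (ModuleCat.ofHom (stepMap f) : freeN A ⟶ freeN A)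
    (ModuleCat.ofHom (augMap f) : freeN A ⟶ ModuleCat.of A (Localization.Away f))
    (ModuleCat.hom_ext (LinearMap.ext (augMap_stepMap f)))

lemma awaySC_shortExact : (awaySC f).ShortExact where
  exact := (ShortComplex.ShortExact.moduleCat_exact_iff_function_exact _).2 (exact_stepMap_augMap f)
  mono_f := (ModuleCat.mono_iff_injective _).2 (stepMap_injective f)
  epi_g := (ModuleCat.epi_iff_surjective _).2 (augMap_surjective f)

/-- Maps out of `⊕ A` are sequences. -/
noncomputable def freeNHom (N : ModuleCat.{u} A) : (freeN A ⟶ N) ≃ (ℕ → N) :=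
  ModuleCat.homEquiv.trans (Finsupp.basisSingleOne.constr A).toEquiv.symm

lemma freeNHom_apply (N : ModuleCat.{u} A) (w : freeN A ⟶ N) (n : ℕ) :
    freeNHom N w n = w (Finsupp.single n 1) := by
  simp [freeNHom, ModuleCat.homEquiv]

lemma freeNHom_step (N : ModuleCat.{u} A) (w : freeN A ⟶ N) :
    freeNHom N (ModuleCat.ofHom (stepMap f) ≫ w) = sigma f N (freeNHom N w) := by
  funext n
  rw [sigma_apply, freeNHom_apply, freeNHom_apply, freeNHom_apply, ConcreteCategory.comp_apply,
    ModuleCat.ofHom_apply, stepMap_single, map_sub]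
  exact congrArg _ (w.hom.map_smul f _)

end Sequence

section Hom

variable {D : Type*} [Category* D] [Preadditive D] [HasShift D ℤ]
  [∀ n : ℤ, (shiftFunctor D n).Additive]

lemma bijective_precomp_shift {X Y : D} (v : X ⟶ Y) (K : D) (m n : ℤ) (hmn : m + 1 = n)
    (h : Function.Bijective fun φ : Y ⟶ K⟦m⟧ => v ≫ φ) :
    Function.Bijective fun φ : Y⟦(1 : ℤ)⟧ ⟶ K⟦n⟧ => v⟦(1 : ℤ)⟧' ≫ φ := by
  let e : (K⟦m⟧)⟦(1 : ℤ)⟧ ≅ K⟦n⟧ := ((shiftFunctorAdd' D m 1 n hmn).app K).symm
  let τ : ∀ X : D, (X ⟶ K⟦m⟧) ≃ (X⟦(1 : ℤ)⟧ ⟶ K⟦n⟧) := fun X =>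
    (Functor.FullyFaithful.ofFullyFaithful (shiftFunctor D (1 : ℤ))).homEquiv.trans
      { toFun := fun φ => φ ≫ e.hom
        invFun := fun φ => φ ≫ e.inv
        left_inv := fun φ => by simp
        right_inv := fun φ => by simp }
  have : (fun φ : Y⟦(1 : ℤ)⟧ ⟶ K⟦n⟧ => v⟦(1 : ℤ)⟧' ≫ φ) =
      τ X ∘ (fun φ : Y ⟶ K⟦m⟧ => v ≫ φ) ∘ (τ Y).symm := by
    funext φ
    obtain ⟨ψ, rfl⟩ := (τ Y).surjective φ
    simp [τ, Functor.FullyFaithful.homEquiv]
  rw [this]
  exact (τ X).bijective.comp (h.comp (τ Y).symm.bijective)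

lemma subsingleton_shift_neg_one {X : D} (K : D) (n : ℤ) (h : Subsingleton (X ⟶ K⟦n + 1⟧)) :
    Subsingleton (X⟦(-1 : ℤ)⟧ ⟶ K⟦n⟧) := by
  let e₁ : (X⟦(-1 : ℤ)⟧)⟦(1 : ℤ)⟧ ≅ X := (shiftFunctorCompIsoId D (-1) 1 (by simp)).app X
  let e₂ : (K⟦n⟧)⟦(1 : ℤ)⟧ ≅ K⟦n + 1⟧ := ((shiftFunctorAdd' D n 1 (n + 1) rfl).app K).symm
  refine ⟨fun a b => (shiftFunctor D (1 : ℤ)).map_injective ?_⟩
  rw [← cancel_mono e₂.hom, ← cancel_epi e₁.inv]
  exact h.elim _ _

end Hom

section Criterion

variable (f : A)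

/-- The precomposition with `u` on `Hom (⊕A[0], K⟦n⟧)`, read on `Hⁿ K`. -/
lemma bijective_precomp_iff (K : Dual.D A) (n : ℤ) :
    Function.Bijective (fun φ : (DerivedCategory.singleFunctor (ModuleCat.{u} A) 0).obj (freeN A) ⟶ K⟦n⟧ =>
        (DerivedCategory.singleFunctor (ModuleCat.{u} A) 0).map (ModuleCat.ofHom (stepMap f)) ≫ φ) ↔
      DC f (Dual.HD A K n) := by
  let H := DerivedCategory.homologyFunctor (ModuleCat.{u} A) 0
  let e : H.obj (K⟦n⟧) ≅ (DerivedCategory.homologyFunctor (ModuleCat.{u} A) n).obj K :=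
    (H.shiftIso n 0 n (add_zero n)).app K
  have : Projective (freeN A) :=
    ModuleCat.projective_of_categoryTheory_projective (freeN A)
  let Φ := (Equiv.ofBijective _ (toHomH0_bijective (freeN A) (K⟦n⟧))).trans (freeNHom (H.obj (K⟦n⟧)))
  rw [DC, ← Function.Bijective.of_comp_iff' (f := Φ) Φ.bijective]
  rw [show (⇑Φ ∘ fun φ => (DerivedCategory.singleFunctor (ModuleCat.{u} A) 0).map
      (ModuleCat.ofHom (stepMap f)) ≫ φ) = sigma f (H.obj (K⟦n⟧)) ∘ Φ from funext fun φ => by
    show freeNHom _ (toHomH0 (freeN A) _ _) = sigma f _ (freeNHom _ (toHomH0 (freeN A) _ φ))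
    rw [toHomH0_precomp, freeNHom_step]]
  rw [Function.Bijective.of_comp_iff _ Φ.bijective]
  exact dc_congr (f := f) e.toLinearEquiv

theorem hom_away_iff (K : Dual.D A) :
    (∀ n : ℤ, Subsingleton (Dual.inD A (Localization.Away f) ⟶ K⟦n⟧)) ↔
      ∀ n : ℤ, DC f (Dual.HD A K n) := by
  simp only [← bijective_precomp_iff]
  let T := (awaySC_shortExact f).singleTriangle
  have hT : T ∈ distTriang (Dual.D A) := (awaySC_shortExact f).singleTriangle_distinguished
  constructor
  · intro h n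
    refine ⟨fun a b hab => ?_, fun ψ => ?_⟩
    · rw [← sub_eq_zero]
      obtain ⟨g, hg⟩ := T.yoneda_exact₂ hT (a - b)
        ((Preadditive.comp_sub _ a b).trans (sub_eq_zero.2 hab))
      exact hg.trans ((congrArg (T.mor₂ ≫ ·) ((h n).elim g 0)).trans comp_zero)
    · have := subsingleton_shift_neg_one K n (h (n + 1))
      obtain ⟨g, hg⟩ := T.invRotate.yoneda_exact₂ (inv_rot_of_distTriang _ hT) ψ
        (Subsingleton.elim (α := (Dual.inD A (Localization.Away f))⟦(-1 : ℤ)⟧ ⟶ K⟦n⟧) _ _)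
      exact ⟨g, hg.symm⟩
  · intro h n
    refine ⟨fun a b => ?_⟩
    rw [← sub_eq_zero]
    obtain ⟨ψ, hψ⟩ := T.yoneda_exact₃ hT (a - b) (by
      apply (h n).1
      show T.mor₁ ≫ T.mor₂ ≫ (a - b) = T.mor₁ ≫ 0
      rw [comp_distTriang_mor_zero₁₂_assoc _ hT, zero_comp, comp_zero])
    obtain ⟨ψ', rfl⟩ := (bijective_precomp_shift _ K (n - 1) n (by ring) (h (n - 1))).2 ψ
    rw [hψ]
    show T.mor₃ ≫ T.mor₁⟦(1 : ℤ)⟧' ≫ ψ' = 0
    rw [comp_distTriang_mor_zero₃₁_assoc _ hT, zero_comp]

theorem isDerivedComplete_iff (I : Ideal A) (K : Dual.D A) :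
    DRing.IsDerivedComplete I K ↔ ∀ f ∈ I, ∀ n : ℤ, DC f (Dual.HD A K n) :=
  forall₂_congr fun f _ => hom_away_iff f K

/-- `H⁰ (M[0]) = M`. -/
noncomputable def HDinDEquiv (M : Type u) [AddCommGroup M] [Module A M] :
    Dual.HD A (Dual.inD A M) 0 ≃ₗ[A] M :=
  ((DerivedCategory.singleFunctorCompHomologyFunctorIso (ModuleCat.{u} A) 0).app
    (ModuleCat.of A M)).toLinearEquiv

lemma subsingleton_HD_inD (M : Type u) [AddCommGroup M] [Module A M] {n : ℤ} (hn : n ≠ 0) :
    Subsingleton (Dual.HD A (Dual.inD A M) n) := by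
  rcases lt_or_gt_of_ne hn with h | h
  · exact ModuleCat.subsingleton_of_isZero (DerivedCategory.isZero_of_isGE (Dual.inD A M) 0 n h)
  · exact ModuleCat.subsingleton_of_isZero (DerivedCategory.isZero_of_isLE (Dual.inD A M) 0 n h)

theorem isDerivedComplete_inD_iff (I : Ideal A) (M : Type u) [AddCommGroup M] [Module A M] :
    DRing.IsDerivedComplete I (Dual.inD A M) ↔ ∀ f ∈ I, DC f M := by
  rw [isDerivedComplete_iff]
  refine forall₂_congr fun f _ => ⟨fun h => (h 0).congr (HDinDEquiv M), fun h n => ?_⟩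
  by_cases hn : n = 0
  · subst hn; exact h.congr (HDinDEquiv M).symm
  · have := subsingleton_HD_inD (A := A) M hn
    exact dc_of_subsingleton

end Criterion

end Groth.DerComplete
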