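import Groth.Prelude.Def_DDual2
import Groth.Agent.DerComplete.Criterion
import Groth.Agent.FlatCxBase.Core
import Mathlib.Algebra.Homology.DerivedCategory.Fractions
import Mathlib.Algebra.Homology.ShortComplex.PreservesHomology
import Mathlib.RingTheory.Localization.Away.Basic

/-!
Derived completeness under restriction of scalars, and vanishing of maps from `f`-invertible complexes.
-/

universe u

open CategoryTheory CategoryTheory.Limits HomologicalComplex

attribute [local instance] HasDerivedCategory.standard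

namespace Groth.DerComplete

section Exact

variable {A B : Type u} [CommRing A] [CommRing B] (φ : A →+* B)

/-- Cohomology of a restriction. -/
lemma nonempty_HD_restrictD_iso (K : Dual.D B) (n : ℤ) :
    Nonempty ((DerivedCategory.homologyFunctor (ModuleCat.{u} A) n).obj ((DRing.restrictD φ).obj K) ≅
      (ModuleCat.restrictScalars φ).obj ((DerivedCategory.homologyFunctor (ModuleCat.{u} B) n).obj K)) := by
  let F := ModuleCat.restrictScalars.{u} φ
  let L := DerivedCategory.Q.objPreimage K
  let e : DerivedCategory.Q.obj L ≅ K := DerivedCategory.Q.objObjPreimageIso K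
  exact ⟨(DerivedCategory.homologyFunctor _ n).mapIso
      (F.mapDerivedCategory.mapIso e.symm ≪≫ F.mapDerivedCategoryFactors.app L) ≪≫
    (DerivedCategory.homologyFunctorFactors _ n).app _ ≪≫ (L.sc n).mapHomologyIso F ≪≫
    F.mapIso ((DerivedCategory.homologyFunctorFactors _ n).symm.app L ≪≫
      (DerivedCategory.homologyFunctor _ n).mapIso e)⟩

lemma dc_restrictScalars_iff (f : A) (M : ModuleCat.{u} B) :
    DC f ((ModuleCat.restrictScalars φ).obj M) ↔ DC (φ f) M := by
  constructor
  · exact DC.of_addEquiv (M := (ModuleCat.restrictScalars φ).obj M) (N := M) (AddEquiv.refl _) fun _ => rfl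
  · exact DC.of_addEquiv (M := M) (N := (ModuleCat.restrictScalars φ).obj M) (AddEquiv.refl _) fun _ => rfl

lemma dc_HD_restrictD_iff (f : A) (K : Dual.D B) (n : ℤ) :
    DC f (Dual.HD A ((DRing.restrictD φ).obj K) n) ↔ DC (φ f) (Dual.HD B K n) := by
  obtain ⟨e⟩ := nonempty_HD_restrictD_iso φ K n
  exact (dc_congr e.toLinearEquiv).trans (dc_restrictScalars_iff φ f _)

theorem isDerivedComplete_map_iff (I : Ideal A) (K : Dual.D B) :
    DRing.IsDerivedComplete (I.map φ) K ↔ DRing.IsDerivedComplete I ((DRing.restrictD φ).obj K) := by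
  simp only [isDerivedComplete_iff, dc_HD_restrictD_iff]
  refine ⟨fun h f hf n => h (φ f) (Ideal.mem_map_of_mem φ hf) n, fun h f hf n => ?_⟩
  exact dc_forall_mem_span (S := φ '' I) (by rintro _ ⟨g, hg, rfl⟩; exact h g hg n) f hf

/-- `A_f[0]` as a restriction. -/
lemma nonempty_restrictD_inD_iso [Algebra A B] :
    Nonempty ((DRing.restrictD (algebraMap A B)).obj (Dual.inD B B) ≅ Dual.inD A B) := by
  let F := ModuleCat.restrictScalars.{u} (algebraMap A B)
  let e₀ : F.obj (ModuleCat.of B B) ≅ ModuleCat.of A B :=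
    LinearEquiv.toModuleIso
      ({ toFun := fun x => x
         invFun := fun x => x
         map_add' := fun _ _ => rfl
         map_smul' := fun a x => (Algebra.smul_def a (show B from x)).symm
         left_inv := fun _ => rfl
         right_inv := fun _ => rfl } : F.obj (ModuleCat.of B B) ≃ₗ[A] B)
  exact ⟨F.mapDerivedCategory.mapIso ((DerivedCategory.singleFunctorIsoCompQ _ 0).app (ModuleCat.of B B)) ≪≫
    F.mapDerivedCategoryFactors.app _ ≪≫
    DerivedCategory.Q.mapIso ((F.mapCochainComplexSingleFunctor 0).app (ModuleCat.of B B) ≪≫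
      (CochainComplex.singleFunctor _ 0).mapIso e₀) ≪≫
    ((DerivedCategory.singleFunctorIsoCompQ _ 0).app (ModuleCat.of A B)).symm⟩

end Exact

section Pi

variable {A : Type u} [CommRing A] (f : A) (L : DRing.Cx A)

/-- The product of countably many copies of `L`. -/
noncomputable def piN : DRing.Cx A where
  X i := ModuleCat.of A (ℕ → L.X i)
  d i j := ModuleCat.ofHom ((L.d i j).hom.compLeft ℕ)
  shape i j h := by
    refine ModuleCat.hom_ext (LinearMap.ext fun x => funext fun n => ?_)
    simp [L.shape i j h]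
    rfl
  d_comp_d' i j k _ _ := by
    refine ModuleCat.hom_ext (LinearMap.ext fun x => funext fun n => ?_)
    exact ConcreteCategory.congr_hom (L.d_comp_d i j k) (x n)

/-- The endomorphism `sigma` of `piN L`. -/
noncomputable def sigmaCx : piN L ⟶ piN L where
  f i := ModuleCat.ofHom (sigma f (L.X i))
  comm' i j _ := by
    refine ModuleCat.hom_ext (LinearMap.ext fun x => funext fun n => ?_)
    show (L.d i j).hom (x n - f • x (n + 1)) = (L.d i j).hom (x n) - f • (L.d i j).hom (x (n + 1))
    rw [map_sub, map_smul]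

/-- The `n`-th projection. -/
noncomputable def projCx (n : ℕ) : piN L ⟶ L where
  f i := ModuleCat.ofHom (LinearMap.proj n : (ℕ → L.X i) →ₗ[A] L.X i)
  comm' _ _ _ := rfl

lemma quasiIso_sigmaCx (h : ∀ n, DC f (L.homology n)) : QuasiIso (sigmaCx f L) := by
  refine ⟨fun j => ?_⟩
  rw [quasiIsoAt_iff_isIso_homologyMap, ConcreteCategory.isIso_iff_bijective]
  let cls := FlatCxBase.cls L j
  refine ⟨(FlatCxBase.homologyMap_injective_iff _ rfl rfl).2 ?_,
    (FlatCxBase.homologyMap_surjective_iff _ rfl rfl).2 ?_⟩
  · rintro (x : ℕ → L.X j) hx ⟨(y : ℕ → L.X _), hy⟩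
    have hc : ∀ k, x k ∈ LinearMap.ker (L.d j ((ComplexShape.up ℤ).next j)).hom := fun k => congrFun hx k
    have h0 : ∀ k, cls ⟨x k, hc k⟩ = 0 := (h j).eq_zero _ fun k => by
      rw [← map_smul, ← sub_eq_zero, ← map_sub]
      exact (FlatCxBase.cls_eq_zero_iff j rfl _).2 ⟨y k, congrFun hy k⟩
    choose w hw using fun k => (FlatCxBase.cls_eq_zero_iff j rfl _).1 (h0 k)
    exact ⟨w, funext hw⟩
  · rintro (y : ℕ → L.X j) hy
    have hc : ∀ k, y k ∈ LinearMap.ker (L.d j ((ComplexShape.up ℤ).next j)).hom := fun k => congrFun hy k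
    obtain ⟨ξ, hξ⟩ := (h j).exists_sum fun k => cls ⟨y k, hc k⟩
    choose x hx using fun k => FlatCxBase.cls_surjective (K := L) j (ξ k)
    have hd : ∀ k, ∃ w, L.d _ j w = y k - (x k).1 + f • (x (k + 1)).1 := fun k => by
      refine (FlatCxBase.cls_eq_zero_iff (K := L) j rfl (⟨y k, hc k⟩ - x k + f • x (k + 1))).1 ?_
      rw [map_add, map_sub, map_smul, hx, hx, hξ k]
      exact add_eq_zero_iff_eq_neg.2 (by simp [cls])
    choose w hw using hd
    refine ⟨fun k => (x k).1, w, funext fun k => (x k).2, funext fun k => ?_⟩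
    show (x k).1 - f • (x (k + 1)).1 + L.d _ j (w k) = y k
    rw [hw k]
    abel

variable {f L}

/-- A chain map out of a complex on which `f` is bijective into one with derived complete cohomology
is zero in the derived category. -/
lemma Q_map_eq_zero {E : DRing.Cx A} (hE : ∀ i, Function.Bijective fun x : E.X i => f • x)
    (h : ∀ n, DC f (L.homology n)) (g : E ⟶ L) : DerivedCategory.Q.map g = 0 := by
  let eqv : ∀ i, E.X i ≃ₗ[A] E.X i :=
    fun i => LinearEquiv.ofBijective (f • LinearMap.id : E.X i →ₗ[A] E.X i) (hE i)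
  let inv : ∀ i, E.X i →ₗ[A] E.X i := fun i => (eqv i).symm.toLinearMap
  have hinv : ∀ i x, f • inv i x = x := fun i x => (eqv i).apply_symm_apply x
  have hcomm : ∀ i j x, E.d i j (inv i x) = inv j (E.d i j x) := fun i j x => by
    apply (hE j).1
    show f • _ = f • _
    rw [hinv, ← map_smul, hinv]
  let G : E ⟶ piN L :=
    { f := fun i => ModuleCat.ofHom (LinearMap.pi fun k => (g.f i).hom.comp (inv i ^ k))
      comm' := fun i j _ => by
        refine ModuleCat.hom_ext (LinearMap.ext fun x => funext fun k => ?_)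
        have hk : ∀ k : ℕ, ∀ x, E.d i j ((inv i ^ k) x) = (inv j ^ k) (E.d i j x) := fun k => by
          induction k with
          | zero => exact fun _ => rfl
          | succ k ih => intro x; rw [pow_succ', pow_succ', Module.End.mul_apply, Module.End.mul_apply, hcomm, ih]
        show (L.d i j).hom ((g.f i).hom ((inv i ^ k) x)) = (g.f j).hom ((inv j ^ k) (E.d i j x))
        rw [← hk]
        exact ConcreteCategory.congr_hom (g.comm i j) _ }
  have hG : G ≫ sigmaCx f L = 0 := by
    ext i : 1
    refine ModuleCat.hom_ext (LinearMap.ext fun x => funext fun k => ?_)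
    show (g.f i).hom ((inv i ^ k) x) - f • (g.f i).hom ((inv i ^ (k + 1)) x) = 0
    rw [← map_smul, pow_succ', Module.End.mul_apply, hinv, sub_self]
  have hg : g = G ≫ projCx L 0 := by
    ext i x
    rfl
  have := quasiIso_sigmaCx f L h
  have h0 : DerivedCategory.Q.map G = 0 := by
    rw [← cancel_mono (DerivedCategory.Q.map (sigmaCx f L)), ← Functor.map_comp, hG, Functor.map_zero,
      zero_comp]
  rw [hg, Functor.map_comp, h0, zero_comp]

theorem subsingleton_hom_of_bijective {E : DRing.Cx A} (hE : ∀ i, Function.Bijective fun x : E.X i => f • x)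
    {K : Dual.D A} (h : ∀ n, DC f (Dual.HD A K n)) : Subsingleton (DRing.toD E ⟶ K) := by
  obtain ⟨L₀, ⟨e⟩⟩ : ∃ L, Nonempty (DerivedCategory.Q.obj L ≅ K) :=
    ⟨_, ⟨DerivedCategory.Q.objObjPreimageIso K⟩⟩
  refine subsingleton_of_forall_eq 0 fun φ => ?_
  obtain ⟨L', g, s, hs, hφ⟩ := DerivedCategory.left_fac (φ ≫ e.inv)
  have hL : ∀ n, DC f (L'.homology n) := fun n =>
    (h n).congr ((DerivedCategory.homologyFunctor _ n).mapIso (e.symm ≪≫ asIso (DerivedCategory.Q.map s)) ≪≫
      (DerivedCategory.homologyFunctorFactors _ n).app L').toLinearEquiv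
  rw [Q_map_eq_zero hE hL g, zero_comp] at hφ
  rw [← cancel_mono e.inv, hφ, zero_comp]

theorem hom_restrictD_iff (f : A) (K : Dual.D A) :
    (∀ n : ℤ, Subsingleton (Dual.inD A (Localization.Away f) ⟶ K⟦n⟧)) ↔
      ∀ E : Dual.D (Localization.Away f),
        Subsingleton ((DRing.restrictD (algebraMap A (Localization.Away f))).obj E ⟶ K) := by
  constructor
  · intro h E
    let F := ModuleCat.restrictScalars.{u} (algebraMap A (Localization.Away f))
    let M := DerivedCategory.Q.objPreimage E
    let e := F.mapDerivedCategory.mapIso (DerivedCategory.Q.objObjPreimageIso E).symm ≪≫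
      F.mapDerivedCategoryFactors.app M
    have hb : ∀ i, Function.Bijective fun x : ((F.mapHomologicalComplex _).obj M).X i => f • x := fun i =>
      show Function.Bijective fun x : M.X i => algebraMap A (Localization.Away f) f • x from
        IsUnit.smul_bijective (IsLocalization.Away.algebraMap_isUnit f)
    have : Subsingleton (DRing.toD ((F.mapHomologicalComplex _).obj M) ⟶ K) :=
      subsingleton_hom_of_bijective hb ((hom_away_iff f K).1 h)
    exact ⟨fun a b => (cancel_epi e.inv).1 (this.elim _ _)⟩
  · intro h n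
    obtain ⟨e⟩ := nonempty_restrictD_inD_iso (A := A) (B := Localization.Away f)
    have := h ((Dual.inD (Localization.Away f) (Localization.Away f))⟦-n⟧)
    let e' : (DRing.restrictD (algebraMap A (Localization.Away f))).obj
        ((Dual.inD (Localization.Away f) (Localization.Away f))⟦-n⟧) ≅ (Dual.inD A (Localization.Away f))⟦-n⟧ :=
      ((DRing.restrictD (algebraMap A (Localization.Away f))).commShiftIso (-n)).app _ ≪≫
        (shiftFunctor _ (-n)).mapIso e
    refine ⟨fun a b => (shiftFunctor (Dual.D A) (-n)).map_injective ?_⟩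
    rw [← cancel_epi e'.hom, ← cancel_mono ((shiftFunctorCompIsoId (Dual.D A) n (-n) (by simp)).app K).hom]
    exact this.elim _ _

end Pi

end Groth.DerComplete
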