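import Groth.Agent.DerComplete.Module
import Mathlib.RingTheory.Henselian
import Mathlib.Algebra.Polynomial.Identities
import Mathlib.Algebra.Polynomial.Div

/-!
A derived complete ring is henselian.
-/

universe u

open Polynomial

namespace Groth.DerComplete

variable {A : Type u} [CommRing A]

lemma sModEq_step (p : A[X]) (a v : A) (hv : v * p.derivative.eval a = 1) :
    p.eval a ^ 2 ∣ p.eval (a - p.eval a * v) := by
  obtain ⟨k, hk⟩ := p.binomExpansion a (-(p.eval a * v))
  rw [← sub_eq_add_neg] at hk
  refine ⟨k * v ^ 2, ?_⟩
  rw [hk]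
  linear_combination -(p.eval a) * hv

lemma henselianRing_of_dc (I : Ideal A) (h : ∀ t ∈ I, DC t A) : HenselianRing A I where
  jac := le_jacobson I h
  is_henselian p _ a₀ h₁ h₂ := by
    set f := p.eval a₀ with hf
    have hu : ∀ a, a - a₀ ∈ I → IsUnit (p.derivative.eval a) := fun a ha => by
      have hd : p.derivative.eval a - p.derivative.eval a₀ ∈ I :=
        I.mem_of_dvd (sub_dvd_eval_sub a a₀ _) ha
      obtain ⟨u, hu⟩ := h₂.exists_right_inv
      obtain ⟨u, rfl⟩ := Ideal.Quotient.mk_surjective u
      rw [← map_mul, ← map_one (Ideal.Quotient.mk I), Ideal.Quotient.eq] at hu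
      refine isUnit_of_mul_isUnit_left (y := u) ?_
      have : p.derivative.eval a * u - 1 ∈ I := by
        have := I.add_mem (I.mul_mem_right u hd) hu
        convert! this using 1
        ring
      have := Ideal.mem_jacobson_bot.1 (le_jacobson I h this) 1
      simpa using this
    classical
    let v : A → A := fun a => Ring.inverse (p.derivative.eval a)
    let next : A → A := fun a => a - p.eval a * v a
    let c : ℕ → A := fun n => next^[n] a₀
    have hc : ∀ n, c n - a₀ ∈ I ∧ f ^ (n + 1) ∣ p.eval (c n) := fun n => by
      induction n with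
      | zero => simp [c, f]
      | succ n ih =>
        have hs : c (n + 1) = next (c n) := Function.iterate_succ_apply' next n a₀
        have hfI : p.eval (c n) ∈ I := I.mem_of_dvd ih.2 (Ideal.pow_mem_of_mem I h₁ _ (by omega))
        refine ⟨?_, ?_⟩
        · rw [hs, show next (c n) - a₀ = (c n - a₀) - p.eval (c n) * v (c n) by simp [next]; ring]
          exact I.sub_mem ih.1 (I.mul_mem_right _ hfI)
        · rw [hs]
          refine (dvd_trans ?_ (pow_dvd_pow_of_dvd ih.2 2)).trans
            (sModEq_step p (c n) (v (c n)) (Ring.inverse_mul_cancel _ (hu _ ih.1)))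
          rw [← pow_mul]
          exact pow_dvd_pow _ (by omega)
    obtain ⟨T, hT⟩ := exists_tails (M := A) {f} (fun t ht => by
      rw [Finset.mem_singleton] at ht
      exact ht ▸ h f h₁) (fun n => c (n + 1) - c n) fun n => by
        rw [Finset.coe_singleton, Ideal.span_singleton_pow, smul_eq_mul, Ideal.mul_top,
          Ideal.mem_span_singleton]
        have hs : c (n + 1) = next (c n) := Function.iterate_succ_apply' next n a₀
        rw [hs, show next (c n) - c n = - (p.eval (c n) * v (c n)) by simp [next]]
        exact ((pow_dvd_pow f (Nat.le_succ n)).trans (hc n).2).mul_right _ |>.neg_right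
    let a := a₀ + T 0
    have key : ∀ n, a = c n + T n := fun n => by
      induction n with
      | zero => rfl
      | succ n ih => rw [ih, (hT n).2]; ring
    have hTn : ∀ n, f ^ n ∣ T n := fun n => by
      have := (hT n).1
      rwa [Finset.coe_singleton, Ideal.span_singleton_pow, smul_eq_mul, Ideal.mul_top,
        Ideal.mem_span_singleton] at this
    have hpa : ∀ n, f ^ n ∣ p.eval a := fun n => by
      rw [key n, ← sub_add_cancel (p.eval (c n + T n)) (p.eval (c n))]
      refine dvd_add ?_ ((pow_dvd_pow f (Nat.le_succ n)).trans (hc n).2)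
      refine (hTn n).trans ?_
      have := sub_dvd_eval_sub (c n + T n) (c n) p
      rwa [add_sub_cancel_left] at this
    have haI : a - a₀ ∈ I := by
      rw [key 1, show c 1 + T 1 - a₀ = (c 1 - a₀) + T 1 by ring]
      exact I.add_mem (hc 1).1 (I.mem_of_dvd (by simpa using hTn 1) h₁)
    refine ⟨next a, ?_, ?_⟩
    · obtain ⟨k, hk⟩ := sModEq_step p a (v a) (Ring.inverse_mul_cancel _ (hu _ haI))
      have h0 : p.eval a * p.eval a = 0 := by
        rw [← Submodule.mem_bot A, ← iInf_smul_iInf_eq_bot (M := A) (h f h₁)]
        refine Submodule.smul_mem_smul ?_ ?_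
        · simpa [Submodule.mem_iInf, Ideal.mem_span_singleton] using hpa
        · simpa [Submodule.mem_iInf, Ideal.mem_span_singleton] using hpa
      show p.eval (next a) = 0
      rw [hk, pow_two, h0, zero_mul]
    · rw [show next a - a₀ = (a - a₀) - p.eval a * v a by simp [next]; ring]
      exact I.sub_mem haI (I.mul_mem_right _ (I.mem_of_dvd (by simpa using hpa 1) h₁))

end Groth.DerComplete
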