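import Groth.Agent.DerComplete.Module
import Mathlib.RingTheory.Polynomial.Basic
import Mathlib.RingTheory.MvPolynomial.Homogeneous
import Mathlib.Algebra.Order.Antidiag.Finsupp
import Mathlib.Data.Finsupp.Fin

/-!
# Power series with values in derived complete modules

If `N` is derived complete with respect to `a₁, …, a_r`, then series `Σ a^μ y_μ` have canonical
sums in `N`. For a module `M` in which relations are trivial (a flat module) over a Noetherian ring
and a linear map `M → N`, the sum only depends on the partial sums modulo the powers of the ideal.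
-/

set_option autoImplicit false

noncomputable section

universe u v w

open MvPolynomial

namespace Groth.DerComplete

variable {A : Type u} [CommRing A]

/-- The monomial `a^μ`. -/
def mono {r : ℕ} (a : Fin r → A) (μ : Fin r →₀ ℕ) : A := ∏ i, a i ^ μ i

/-- The exponents of degree `n`. -/
def degSet (r n : ℕ) : Finset (Fin r →₀ ℕ) := Finset.univ.finsuppAntidiag n

lemma mem_degSet {r n : ℕ} {μ : Fin r →₀ ℕ} : μ ∈ degSet r n ↔ μ.degree = n := by
  rw [degSet, Finset.mem_finsuppAntidiag, Finsupp.degree_eq_sum]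
  simp

/-- Shift of a series. -/
def shiftS {r : ℕ} {M : Type v} [Zero M] (κ : Fin r →₀ ℕ) (y : (Fin r →₀ ℕ) → M) (μ : Fin r →₀ ℕ) :
    M :=
  if κ ≤ μ then y (μ - κ) else 0

section Sum

variable {N : Type w} [AddCommGroup N] [Module A N]

/-- The sum `Σ a^μ y_μ` of a series in a derived complete module. -/
noncomputable def seriesSum : ∀ {r : ℕ} (a : Fin r → A), (∀ i, DC (a i) N) →
    ((Fin r →₀ ℕ) → N) →ₗ[A] N
  | 0, _, _ => LinearMap.proj 0
  | r + 1, a, h =>
    (LinearMap.proj 0).comp
      ((LinearEquiv.ofBijective (sigma (a 0) N) (h 0)).symm.toLinearMap.comp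
        (LinearMap.pi fun n => (seriesSum (fun i : Fin r => a i.succ) fun i => h i.succ).comp
          (LinearMap.funLeft A N (Finsupp.cons n))))

/-- Characterization of the sum. -/
lemma seriesSum_succ {r : ℕ} (a : Fin (r + 1) → A) (h : ∀ i, DC (a i) N)
    (y : (Fin (r + 1) →₀ ℕ) → N) (x : ℕ → N)
    (hx : ∀ n, x n = seriesSum (fun i : Fin r => a i.succ) (fun i => h i.succ)
      (fun ν => y (Finsupp.cons n ν)) + a 0 • x (n + 1)) :
    seriesSum a h y = x 0 := by
  have : (LinearEquiv.ofBijective (sigma (a 0) N) (h 0)).symm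
      (fun n => seriesSum (fun i : Fin r => a i.succ) (fun i => h i.succ)
        (fun ν => y (Finsupp.cons n ν))) = x := by
    rw [LinearEquiv.symm_apply_eq]
    funext n
    change _ = x n - a 0 • x (n + 1)
    rw [hx n, add_sub_cancel_right]
  exact congrFun this 0

/-- The sequence of tails of a sum. -/
lemma exists_seq {r : ℕ} (a : Fin (r + 1) → A) (h : ∀ i, DC (a i) N)
    (y : (Fin (r + 1) →₀ ℕ) → N) :
    ∃ x : ℕ → N, (∀ n, x n = seriesSum (fun i : Fin r => a i.succ) (fun i => h i.succ)
      (fun ν => y (Finsupp.cons n ν)) + a 0 • x (n + 1)) ∧ seriesSum a h y = x 0 := by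
  obtain ⟨x, hx⟩ := (h 0).exists_sum fun n => seriesSum (fun i : Fin r => a i.succ)
    (fun i => h i.succ) (fun ν => y (Finsupp.cons n ν))
  exact ⟨x, hx, seriesSum_succ a h y x hx⟩

/-- Sums commute with linear maps. -/
lemma seriesSum_map {N' : Type w} [AddCommGroup N'] [Module A N'] (ρ : N →ₗ[A] N') :
    ∀ {r : ℕ} (a : Fin r → A) (h : ∀ i, DC (a i) N) (h' : ∀ i, DC (a i) N')
      (y : (Fin r →₀ ℕ) → N), seriesSum a h' (fun μ => ρ (y μ)) = ρ (seriesSum a h y) := by
  intro r
  induction r with
  | zero => intro a h h' y; rfl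
  | succ r ih =>
    intro a h h' y
    obtain ⟨x, hx, h0⟩ := exists_seq a h y
    rw [h0]
    refine seriesSum_succ a h' _ (fun n => ρ (x n)) fun n => ?_
    rw [ih _ (fun i => h i.succ) _ fun ν => y (Finsupp.cons n ν), ← map_smul, ← map_add, ← hx n]

/-- The sum of a series concentrated in degree zero. -/
lemma seriesSum_single : ∀ {r : ℕ} (a : Fin r → A) (h : ∀ i, DC (a i) N) (m : N),
    seriesSum a h (fun μ => if μ = 0 then m else 0) = m := by
  intro r
  induction r with
  | zero => intro a h m; simp [seriesSum]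
  | succ r ih =>
    intro a h m
    refine seriesSum_succ a h _ (fun n => if n = 0 then m else 0) fun n => ?_
    rcases n with - | n
    · simp only [if_pos rfl, Nat.succ_ne_zero, if_false, smul_zero, add_zero]
      refine (Eq.trans ?_ (ih (fun i : Fin r => a i.succ) (fun i => h i.succ) m)).symm
      refine congrArg _ (funext fun ν => if_congr ?_ rfl rfl)
      constructor
      · intro e
        ext j
        have := DFunLike.congr_fun e j.succ
        rwa [Finsupp.cons_succ] at this
      · rintro rfl
        exact Finsupp.cons_zero_zero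
    · have hz : (fun ν : Fin r →₀ ℕ => if Finsupp.cons (n + 1) ν = 0 then m else (0 : N)) = 0 :=
        funext fun ν => if_neg fun e => Nat.succ_ne_zero n (by
          have := DFunLike.congr_fun e 0
          rwa [Finsupp.cons_zero] at this)
      simp only [Nat.succ_ne_zero, if_false, smul_zero, add_zero, hz, map_zero]

/-- The sum of a shifted series. -/
lemma seriesSum_shift : ∀ {r : ℕ} (a : Fin r → A) (h : ∀ i, DC (a i) N) (κ : Fin r →₀ ℕ)
    (y : (Fin r →₀ ℕ) → N), seriesSum a h (shiftS κ y) = mono a κ • seriesSum a h y := by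
  intro r
  induction r with
  | zero =>
    intro a h κ y
    obtain rfl : κ = 0 := Finsupp.ext fun i => i.elim0
    simp [shiftS, seriesSum, mono]
  | succ r ih =>
    intro a h κ y
    obtain ⟨x, hx, h0⟩ := exists_seq a h y
    set m := κ 0
    set κ' := Finsupp.tail κ
    set c := mono (fun i : Fin r => a i.succ) κ'
    have hκ : κ = Finsupp.cons m κ' := (Finsupp.cons_tail κ).symm
    have hmono : mono a κ = a 0 ^ m * c := Fin.prod_univ_succ _
    have hrow : ∀ n, (fun ν => shiftS κ y (Finsupp.cons n ν)) =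
        if m ≤ n then shiftS κ' (fun ν => y (Finsupp.cons (n - m) ν)) else 0 := by
      intro n
      funext ν
      have hle : κ ≤ Finsupp.cons n ν ↔ m ≤ n ∧ κ' ≤ ν := by
        rw [hκ, Finsupp.le_def, Fin.forall_fin_succ, Finsupp.le_def]
        simp only [Finsupp.cons_zero, Finsupp.cons_succ]
      by_cases hm : m ≤ n
      · rw [if_pos hm]
        by_cases hν : κ' ≤ ν
        · simp only [shiftS, if_pos (hle.2 ⟨hm, hν⟩), if_pos hν]
          refine congrArg y (Finsupp.ext fun i => ?_)
          refine Fin.cases ?_ (fun j => ?_) i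
          · rw [Finsupp.tsub_apply, Finsupp.cons_zero, Finsupp.cons_zero]
          · rw [Finsupp.tsub_apply, Finsupp.cons_succ, Finsupp.cons_succ, Finsupp.tsub_apply]
            rfl
        · simp only [shiftS, if_neg fun e => hν (hle.1 e).2, if_neg hν]
      · simp only [shiftS, if_neg fun e => hm (hle.1 e).1, if_neg hm]
        rfl
    rw [h0, hmono]
    refine (seriesSum_succ a h _ (fun n => if m ≤ n then c • x (n - m) else (a 0 ^ (m - n) * c) • x 0)
      fun n => ?_).trans ?_
    · rw [hrow n]
      by_cases hm : m ≤ n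
      · rw [if_pos hm, if_pos hm, if_pos (by omega : m ≤ n + 1), ih,
          show n + 1 - m = n - m + 1 by omega, hx (n - m), smul_add, smul_comm (a 0) c]
      · rw [if_neg hm, if_neg hm, map_zero, zero_add]
        by_cases hm' : m ≤ n + 1
        · rw [if_pos hm', show m - n = 1 by omega, show n + 1 - m = 0 by omega, pow_one, mul_smul]
        · rw [if_neg hm', smul_smul, ← mul_assoc, ← pow_succ', show m - (n + 1) + 1 = m - n by omega]
    · by_cases hm : m ≤ 0
      · rw [if_pos hm, Nat.le_zero.1 hm, pow_zero, one_mul]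
      · rw [if_neg hm, Nat.sub_zero]

end Sum

section Partial

variable {M : Type v} [AddCommGroup M] [Module A M] {r : ℕ} (a : Fin r → A)

/-- The homogeneous part of degree `n` of a series, summed. -/
def homSum (n : ℕ) (y : (Fin r →₀ ℕ) → M) : M := ∑ μ ∈ degSet r n, mono a μ • y μ

/-- The partial sums of a series. -/
def partialSum (n : ℕ) (y : (Fin r →₀ ℕ) → M) : M := ∑ j ∈ Finset.range n, homSum a j y

lemma homSum_add (n : ℕ) (y z : (Fin r →₀ ℕ) → M) :
    homSum a n (y + z) = homSum a n y + homSum a n z := by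
  simp [homSum, Finset.sum_add_distrib]

lemma homSum_smul (n : ℕ) (t : A) (y : (Fin r →₀ ℕ) → M) :
    homSum a n (t • y) = t • homSum a n y := by
  simp [homSum, Finset.smul_sum, smul_comm t]

lemma homSum_sum {ι : Type*} (s : Finset ι) (n : ℕ) (y : ι → (Fin r →₀ ℕ) → M) :
    homSum a n (∑ i ∈ s, y i) = ∑ i ∈ s, homSum a n (y i) := by
  simp only [homSum, Finset.sum_apply, Finset.smul_sum]
  exact Finset.sum_comm

lemma homSum_congr {n : ℕ} {y z : (Fin r →₀ ℕ) → M} (h : ∀ μ, μ.degree = n → y μ = z μ) :
    homSum a n y = homSum a n z :=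
  Finset.sum_congr rfl fun μ hμ => by rw [h μ (mem_degSet.1 hμ)]

lemma partialSum_add (n : ℕ) (y z : (Fin r →₀ ℕ) → M) :
    partialSum a n (y + z) = partialSum a n y + partialSum a n z := by
  simp [partialSum, homSum_add, Finset.sum_add_distrib]

lemma partialSum_smul (n : ℕ) (t : A) (y : (Fin r →₀ ℕ) → M) :
    partialSum a n (t • y) = t • partialSum a n y := by
  simp [partialSum, homSum_smul, Finset.smul_sum]

lemma partialSum_succ (n : ℕ) (y : (Fin r →₀ ℕ) → M) :
    partialSum a (n + 1) y = partialSum a n y + homSum a n y := Finset.sum_range_succ _ _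

lemma partialSum_map {M' : Type w} [AddCommGroup M'] [Module A M'] (ρ : M →ₗ[A] M') (n : ℕ)
    (y : (Fin r →₀ ℕ) → M) : ρ (partialSum a n y) = partialSum a n fun μ => ρ (y μ) := by
  simp [partialSum, homSum, map_sum]

lemma homSum_single (n : ℕ) (m : M) :
    homSum a n (fun μ => if μ = 0 then m else 0) = if n = 0 then m else 0 := by
  rcases n with - | n
  · rw [if_pos rfl, homSum, Finset.sum_eq_single (0 : Fin r →₀ ℕ)]
    · simp [mono]
    · intro μ _ hμ
      rw [if_neg hμ, smul_zero]
    · intro h
      exact absurd (mem_degSet.2 (map_zero _)) h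
  · rw [if_neg (Nat.succ_ne_zero n)]
    refine Finset.sum_eq_zero fun μ hμ => ?_
    beta_reduce
    rw [if_neg, smul_zero]
    rintro rfl
    exact Nat.succ_ne_zero n ((mem_degSet.1 hμ).symm.trans (map_zero _))

lemma homSum_shift_single (n : ℕ) (i : Fin r) (w : (Fin r →₀ ℕ) → M) :
    homSum a (n + 1) (shiftS (Finsupp.single i 1) w) = a i • homSum a n w := by
  classical
  rw [homSum, homSum, Finset.smul_sum]
  have : ∀ μ ∈ degSet r (n + 1), mono a μ • shiftS (Finsupp.single i 1) w μ =
      if Finsupp.single i 1 ≤ μ then mono a μ • w (μ - Finsupp.single i 1) else 0 := fun μ _ => by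
    rw [shiftS]
    split_ifs <;> simp
  rw [Finset.sum_congr rfl this, ← Finset.sum_filter]
  refine Finset.sum_nbij' (fun μ => μ - Finsupp.single i 1) (fun μ => μ + Finsupp.single i 1)
    (fun μ hμ => ?_) (fun μ hμ => ?_) (fun μ hμ => ?_) (fun μ _ => add_tsub_cancel_right _ _) fun μ hμ => ?_
  · rw [Finset.mem_filter, mem_degSet] at hμ
    rw [mem_degSet]
    have := congrArg Finsupp.degree (tsub_add_cancel_of_le hμ.2)
    rw [map_add, Finsupp.degree_single, hμ.1] at this
    omega
  · rw [mem_degSet] at hμ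
    rw [Finset.mem_filter, mem_degSet, map_add, Finsupp.degree_single, hμ]
    exact ⟨rfl, le_add_self⟩
  · rw [Finset.mem_filter] at hμ
    exact tsub_add_cancel_of_le hμ.2
  · rw [Finset.mem_filter] at hμ
    rw [smul_smul]
    refine congrArg (· • _) ?_
    conv_lhs => rw [← tsub_add_cancel_of_le hμ.2]
    simp only [mono, Finsupp.add_apply, pow_add, Finset.prod_mul_distrib]
    rw [mul_comm, Finset.prod_eq_single i (fun b _ hb => by
      rw [Finsupp.single_eq_of_ne hb, pow_zero]) (fun h => absurd (Finset.mem_univ i) h),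
      Finsupp.single_eq_same, pow_one]

/-- The powers of the ideal generated by `a`. -/
lemma exists_homSum_eq : ∀ (n : ℕ) (x : M),
    x ∈ Ideal.span (Set.range a) ^ n • (⊤ : Submodule A M) → ∃ w, homSum a n w = x := by
  intro n
  induction n with
  | zero => exact fun x _ => ⟨fun μ => if μ = 0 then x else 0, (homSum_single a 0 x).trans (if_pos rfl)⟩
  | succ n ih =>
    intro x hx
    rw [pow_succ', Submodule.mul_smul] at hx
    refine Submodule.smul_induction_on hx (fun t ht m hm => ?_) ?_
    · obtain ⟨c, rfl⟩ := Ideal.mem_span_range_iff_exists_fun.1 ht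
      obtain ⟨w, rfl⟩ := ih m hm
      refine ⟨∑ i, c i • shiftS (Finsupp.single i 1) w, ?_⟩
      simp [homSum_sum, homSum_smul, homSum_shift_single, Finset.sum_smul, smul_smul]
    · rintro x y ⟨w, rfl⟩ ⟨w', rfl⟩
      exact ⟨w + w', homSum_add a _ _ _⟩

/-- The powers of the ideal generated by `a`, with the generators split off. -/
lemma exists_smul_homSum_eq (n : ℕ) (x : M)
    (hx : x ∈ Ideal.span (Set.range a) ^ (n + 1) • (⊤ : Submodule A M)) :
    ∃ w : Fin r → (Fin r →₀ ℕ) → M, ∑ i, a i • homSum a n (w i) = x := by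
  rw [pow_succ', Submodule.mul_smul] at hx
  refine Submodule.smul_induction_on hx (fun t ht m hm => ?_) ?_
  · obtain ⟨c, rfl⟩ := Ideal.mem_span_range_iff_exists_fun.1 ht
    obtain ⟨w, rfl⟩ := exists_homSum_eq a n m hm
    refine ⟨fun i => c i • w, ?_⟩
    simp [homSum_smul, Finset.sum_smul, smul_smul, mul_comm]
  · rintro x y ⟨w, rfl⟩ ⟨w', rfl⟩
    exact ⟨w + w', by simp [homSum_add, smul_add, Finset.sum_add_distrib]⟩

end Partial

/-- The coefficients of a product. -/
lemma coeff_mul_eq_sum {σ : Type*} [DecidableEq σ] (g h : MvPolynomial σ A) (μ : σ →₀ ℕ) :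
    coeff μ (g * h) = ∑ ν ∈ g.support, if ν ≤ μ then coeff ν g * coeff (μ - ν) h else 0 := by
  conv_lhs => rw [g.as_sum, Finset.sum_mul, coeff_sum]
  simp only [coeff_monomial_mul']

variable {M : Type v} [AddCommGroup M] [Module A M] {N : Type w} [AddCommGroup N] [Module A N]

/-- In a flat module over a Noetherian ring, a series with partial sums in the powers of the ideal
sums to zero after any linear map to a derived complete module. -/
theorem seriesSum_eq_zero [IsNoetherianRing A]
    (hM : ∀ (κ : Type) (s : Finset κ) (f : κ → A) (x : κ → M), ∑ i ∈ s, f i • x i = 0 →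
      ∃ (k : ℕ) (c : κ → Fin k → A) (y : Fin k → M),
        (∀ i ∈ s, x i = ∑ j, c i j • y j) ∧ ∀ j, ∑ i ∈ s, f i * c i j = 0)
    {r : ℕ} (a : Fin r → A) (hN : ∀ i, DC (a i) N) (ψ : M →ₗ[A] N) (y : (Fin r →₀ ℕ) → M)
    (hy : ∀ n, partialSum a n y ∈ Ideal.span (Set.range a) ^ n • (⊤ : Submodule A M)) :
    seriesSum a hN (fun μ => ψ (y μ)) = 0 := by
  classical
  let E : ((Fin r →₀ ℕ) → M) →ₗ[A] N :=
    (seriesSum a hN).comp (LinearMap.pi fun μ => ψ.comp (LinearMap.proj μ))
  have hEs : ∀ κ (w : (Fin r →₀ ℕ) → M), E (shiftS κ w) = mono a κ • E w := fun κ w => by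
    refine Eq.trans (congrArg (seriesSum a hN) (funext fun μ => ?_))
      (seriesSum_shift a hN κ fun μ => ψ (w μ))
    change ψ (shiftS κ w μ) = shiftS κ (fun μ => ψ (w μ)) μ
    simp only [shiftS]
    split_ifs <;> simp
  change E y = 0
  choose W hW using fun n => exists_smul_homSum_eq a n _ (hy (n + 1))
  let W' : Fin r → (Fin r →₀ ℕ) → M := fun i μ => W μ.degree i μ
  let w : (Fin r →₀ ℕ) → M := ∑ i, shiftS (Finsupp.single i 1) (W' i)
  let z := y + w - ∑ i, a i • W' i
  have hz : E y = E z := by
    have hm : ∀ i, mono a (Finsupp.single i 1) = a i := fun i => by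
      rw [mono, Finset.prod_eq_single i (fun b _ hb => by rw [Finsupp.single_eq_of_ne hb, pow_zero])
        (fun h => absurd (Finset.mem_univ i) h), Finsupp.single_eq_same, pow_one]
    simp [z, w, map_sum, hEs, hm]
  have hW' : ∀ n, ∑ i, a i • homSum a n (W' i) = partialSum a (n + 1) y := fun n => by
    rw [← hW n]
    exact Finset.sum_congr rfl fun i _ => by rw [homSum_congr a (z := W n i) fun μ hμ => by
      simp only [W', hμ]]
  have hw : ∀ n, homSum a n w = partialSum a n y := by
    rintro (- | n)
    · rw [show partialSum a 0 y = 0 from Finset.sum_range_zero _, homSum]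
      refine Finset.sum_eq_zero fun μ hμ => ?_
      obtain rfl : μ = 0 := (Finsupp.degree_eq_zero_iff μ).1 (mem_degSet.1 hμ)
      simp [w, Finset.sum_apply, shiftS]
    · rw [← hW' n]
      simp [w, homSum_sum, homSum_shift_single]
  have hrel : ∀ n, homSum a n z = 0 := fun n => by
    have h1 : homSum a n z + homSum a n (∑ i, a i • W' i) = homSum a n y + homSum a n w := by
      rw [← homSum_add, ← homSum_add, sub_add_cancel]
    rw [hw, homSum_sum] at h1
    simp only [homSum_smul, hW', partialSum_succ] at h1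
    rw [add_comm (homSum a n y)] at h1
    exact add_eq_right.1 h1
  rw [hz]
  clear_value z
  clear hz hw hW' hW
  choose k c u hu hc using fun n => hM _ (degSet r n) (mono a) z (hrel n)
  let S : Set (MvPolynomial (Fin r) A) := {p | ∃ d, p.IsHomogeneous d ∧ eval a p = 0}
  obtain ⟨s, hsS, hs⟩ := Submodule.fg_span_iff_fg_span_finset_subset S |>.1
    (IsNoetherian.noetherian (Submodule.span (MvPolynomial (Fin r) A) S))
  choose d hd hd0 using fun g : s => hsS g.2
  let p : ∀ n, Fin (k n) → MvPolynomial (Fin r) A := fun n j =>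
    ∑ μ ∈ degSet r n, monomial μ (c n μ j)
  have hp : ∀ n j, ∃ h : MvPolynomial (Fin r) A → MvPolynomial (Fin r) A,
      ∑ g ∈ s, h g • g = p n j := fun n j => by
    have hpS : p n j ∈ Submodule.span (MvPolynomial (Fin r) A) S := Submodule.subset_span
      ⟨n, IsHomogeneous.sum _ _ _ fun μ hμ => isHomogeneous_monomial _ (mem_degSet.1 hμ), by
        rw [map_sum, ← hc n j]
        refine Finset.sum_congr rfl fun μ _ => ?_
        rw [eval_monomial, mul_comm, mono, Finsupp.prod_fintype _ _ fun i => pow_zero _]⟩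
    rw [hs] at hpS
    obtain ⟨h, -, hh⟩ := Submodule.mem_span_finset.1 hpS
    exact ⟨h, hh⟩
  choose h hh using hp
  let H : s → (Fin r →₀ ℕ) → M := fun g κ =>
    ∑ j, coeff κ (h (κ.degree + d g) j g) • u (κ.degree + d g) j
  have hdeg : ∀ (g : s) ν, ν ∈ (g : MvPolynomial (Fin r) A).support → ν.degree = d g := fun g ν hν => by
    rw [Finsupp.degree_eq_weight_one]
    exact hd g (mem_support_iff.1 hν)
  have hzH : z = ∑ g : s, ∑ ν ∈ (g : MvPolynomial (Fin r) A).support,
      coeff ν (g : MvPolynomial (Fin r) A) • shiftS ν (H g) := by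
    funext μ
    set n := μ.degree
    have hμ : μ ∈ degSet r n := mem_degSet.2 rfl
    rw [hu n μ hμ]
    have hcoef : ∀ j, c n μ j = ∑ g : s, ∑ ν ∈ (g : MvPolynomial (Fin r) A).support,
        if ν ≤ μ then coeff ν (g : MvPolynomial (Fin r) A) * coeff (μ - ν) (h n j g) else 0 := fun j => by
      have h1 : coeff μ (p n j) = c n μ j := by
        simp only [p, coeff_sum, coeff_monomial]
        rw [Finset.sum_eq_single μ (fun b _ hb => if_neg hb) (fun hb => absurd hμ hb), if_pos rfl]
      rw [← h1, ← hh n j, coeff_sum, ← Finset.sum_coe_sort s]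
      exact Finset.sum_congr rfl fun g _ => by rw [smul_eq_mul, mul_comm, coeff_mul_eq_sum]
    simp only [hcoef, Finset.sum_smul, Finset.sum_apply, Pi.smul_apply]
    rw [Finset.sum_comm]
    refine Finset.sum_congr rfl fun g _ => ?_
    rw [Finset.sum_comm]
    refine Finset.sum_congr rfl fun ν hν => ?_
    simp only [shiftS]
    split_ifs with hle
    · have hn : (μ - ν).degree + d g = n := by
        rw [← hdeg g ν hν, ← map_add, tsub_add_cancel_of_le hle]
      simp only [H, Finset.smul_sum]
      rw [hn]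
      simp only [smul_smul]
    · simp
  rw [hzH, map_sum]
  refine Finset.sum_eq_zero fun g _ => ?_
  simp only [map_sum, map_smul, hEs, smul_smul, ← Finset.sum_smul]
  have h0 : ∑ ν ∈ (g : MvPolynomial (Fin r) A).support,
      coeff ν (g : MvPolynomial (Fin r) A) * mono a ν = eval a (g : MvPolynomial (Fin r) A) := by
    rw [eval_eq']
    rfl
  rw [h0, hd0 g, zero_smul]

end Groth.DerComplete
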